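import Cfsg.Agent.FC.Data
import Cfsg.Agent.H62.SL23Rec

/-!
Quaternion frames inside groups with fixed-point-free data.
-/

set_option autoImplicit false
set_option linter.unusedSectionVars false
set_option linter.unusedSimpArgs false

namespace Cfsg.Agent.FC

universe u v

/-- a quaternion frame realised by group elements -/
structure GFrame {G : Type u} [Group G] {A : Type v} [Ring A] (D : FPData G A) where
  x : G
  i : G
  j : G
  k : G
  F : Frame A
  hI : D.R i = F.I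
  hJ : D.R j = F.J
  hK : D.R k = F.K
  ha : D.a x = F.s
  x3 : x * x * x = 1
  x1 : x ≠ 1

variable {G : Type u} [Group G] {A : Type v} [Ring A] {D : FPData G A}

section exist

theorem exists_frame_of_t {x y : G} (hx : x * x * x = 1) (hx1 : x ≠ 1) (hy : y * y * y = 1) (hy1 : y ≠ 1)
    (ht : D.t (x * y) = 0) : ∃ Φ : GFrame D, Φ.x = x ∧ Φ.i = (x * y)⁻¹ := by
  have hx' := D.inv3 hx hx1
  have hy' := D.inv3 hy hy1
  set X := D.R x with hX
  set X' := D.R x⁻¹ with hX'
  set Y := D.R y with hY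
  set I := D.R (x * y)⁻¹ with hI
  have hIe : I = -(X * Y) := by
    rw [FPData.t, ← hI, map_mul] at ht
    exact (neg_eq_of_add_eq_zero_right ht).symm
  have hII : I * I = -1 := by
    nth_rewrite 2 [hIe]
    rw [mul_neg, hX, hY, ← map_mul, hI, D.inv_mul]
  have hIX : I * X = X' * I - 1 := by
    have h1 : I * X = D.R y⁻¹ := by rw [hI, hX, ← map_mul]; congr 1; group
    have h2 : X' * I = -Y := by rw [hIe, mul_neg, hX', hX, ← mul_assoc, D.inv_mul, one_mul]
    rw [h1, h2, hy']; abel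
  have hXX : X' * X' = X := by
    rw [hX', ← map_mul]; congr 1
    rw [← _root_.mul_inv_rev, inv_eq_iff_mul_eq_one, hx]
  have hX'X : X' * X = 1 := D.inv_mul x
  have hJe : D.R (x⁻¹ * (x * y)⁻¹ * x) = X * I - X' := by
    rw [map_mul, map_mul, ← hI, ← hX, ← hX', mul_assoc, hIX, mul_sub, ← mul_assoc, hXX, mul_one]
  have hKe : D.R (x⁻¹ * (x⁻¹ * (x * y)⁻¹ * x) * x) = X' * I + X := by
    rw [map_mul, map_mul, hJe, ← hX, ← hX', mul_sub, ← mul_assoc, hX'X, one_mul, hXX, sub_mul, hIX]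
    have : X * X = X' := by
      rw [hX, ← map_mul, hX']; congr 1
      rw [eq_inv_iff_mul_eq_one, hx]
    rw [this, hx']; abel
  have hIX' : I * X' = -I - X' * I + 1 := by rw [hx', mul_sub, mul_neg, mul_one, hIX, hx']; noncomm_ring
  have hIJ : I * (X * I - X') = X' * I + X := by
    rw [mul_sub, ← mul_assoc, hIX, hIX', sub_mul, mul_assoc, hII, one_mul, hx']; noncomm_ring
  have hJI : (X * I - X') * I = -(X' * I + X) := by
    rw [sub_mul, mul_assoc, hII]; noncomm_ring
  have hJJ : (X * I - X') * (X * I - X') = -1 := by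
    rw [← hJe, ← map_mul]
    have : x⁻¹ * (x * y)⁻¹ * x * (x⁻¹ * (x * y)⁻¹ * x) = x⁻¹ * ((x * y)⁻¹ * (x * y)⁻¹) * x := by group
    rw [this, map_mul, map_mul, map_mul, ← hI, hII, mul_neg, mul_one, neg_mul, ← hX, ← hX', hX'X]
  refine ⟨⟨x, (x * y)⁻¹, x⁻¹ * (x * y)⁻¹ * x, x⁻¹ * (x⁻¹ * (x * y)⁻¹ * x) * x,
    ⟨I, X * I - X', X' * I + X, hII, hJJ, hIJ, hJI⟩, rfl, hJe, hKe, ?_, hx, hx1⟩, rfl, rfl⟩
  show X + X + 1 = I + (X * I - X') + (X' * I + X)
  rw [hx']; noncomm_ring

theorem exists_frame [Algebra ℚ A] {x z : G} (hx : x * x * x = 1) (hx1 : x ≠ 1) (hz : z * z * z = 1) (hz1 : z ≠ 1)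
    (hne : x ≠ z) (hxz : x * z ≠ 1) :
    ∃ Φ : GFrame D, ∀ H : Subgroup G, x ∈ H → z ∈ H → Φ.x ∈ H ∧ Φ.i ∈ H := by
  rcases D.o33 x z hx hx1 hz hz1 hne hxz with h | h | h
  · obtain ⟨Φ, h1, h2⟩ := exists_frame_of_t hx hx1 hz hz1 (D.t4 h)
    refine ⟨Φ, fun H hxH hzH => ?_⟩
    rw [h1, h2]
    exact ⟨hxH, H.inv_mem (H.mul_mem hxH hzH)⟩
  · have hz' : z⁻¹ * z⁻¹ * z⁻¹ = 1 := by
      rw [← _root_.mul_inv_rev, ← _root_.mul_inv_rev, ← mul_assoc, hz, inv_one]
    have hz1' : z⁻¹ ≠ 1 := by rwa [Ne, inv_eq_one]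
    have h3 : D.t (x * z⁻¹) = 0 := by
      have h4 := D.t6 h
      rw [D.t_eq hx hx1 hz hz1] at h4
      rw [D.t_eq hx hx1 hz' hz1', D.inv3 hz hz1]
      calc D.R x * (-1 - D.R z) + (-1 - D.R z) * D.R x + D.R x + (-1 - D.R z) + 1 =
          1 - (D.R x * D.R z + D.R z * D.R x + D.R x + D.R z + 1) := by noncomm_ring
        _ = 0 := by rw [h4, sub_self]
    obtain ⟨Φ, h1, h2⟩ := exists_frame_of_t hx hx1 hz' hz1' h3
    refine ⟨Φ, fun H hxH hzH => ?_⟩
    rw [h1, h2]
    exact ⟨hxH, H.inv_mem (H.mul_mem hxH (H.inv_mem hzH))⟩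
  · have hy : z⁻¹ * x * z * (z⁻¹ * x * z) * (z⁻¹ * x * z) = 1 := by
      have : z⁻¹ * x * z * (z⁻¹ * x * z) * (z⁻¹ * x * z) = z⁻¹ * (x * x * x) * z := by group
      rw [this, hx]; group
    have hy1 : z⁻¹ * x * z ≠ 1 := by
      intro h1
      apply hx1
      have : x = z * (z⁻¹ * x * z) * z⁻¹ := by group
      rw [this, h1]; group
    have h3 : D.t (x * (z⁻¹ * x * z)) = 0 := by
      have h4 := D.t10 h
      have h5 := D.P_eq hx hx1 hz hz1
      have h6 := D.P_eq hx hx1 hy hy1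
      have ha := D.a_sq hx hx1
      have hc := D.a_sq hz hz1
      set P := D.a x * D.a z + D.a z * D.a x with hP
      have hPP : P * P = 20 := by
        rw [h5]
        set T := D.t (x * z)
        have e4 : (4 : A) = 2 * 2 := by norm_num
        have h2 : (T + T + T + T - 2) * (T + T + T + T - 2) = 16 * (T * T - T) + 4 := by rw [e4]; noncomm_ring
        rw [h2, h4]; norm_num
      have h7 : D.a (z⁻¹ * x * z) = D.R z⁻¹ * D.a x * D.R z := D.a_conj z x
      have h8 : D.R z⁻¹ * D.a x * D.R z + D.R z⁻¹ * D.a x * D.R z + (D.R z⁻¹ * D.a x * D.R z + D.R z⁻¹ * D.a x * D.R z) =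
          -((D.a z + 1) * D.a x * (D.a z - 1)) := by
        rw [D.inv3 hz hz1]
        simp only [FPData.a]
        noncomm_ring
      -- four times the product
      have h9 : D.a x * D.a (z⁻¹ * x * z) + D.a (z⁻¹ * x * z) * D.a x = -2 := by
        apply sub_eq_zero.mp
        apply Frame.four_ne
        set a := D.a x
        set c := D.a z
        set M := D.R z⁻¹ * a * D.R z
        rw [h7]
        have h10 : a * M + M * a - -2 + (a * M + M * a - -2) + (a * M + M * a - -2) + (a * M + M * a - -2) =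
            a * (M + M + (M + M)) + (M + M + (M + M)) * a + 8 := by
          have e8 : (8 : A) = 2 + 2 + 2 + 2 := by norm_num
          rw [e8]; simp only [mul_add, add_mul]; abel
        rw [h10, h8]
        have h11 : a * -((c + 1) * a * (c - 1)) + -((c + 1) * a * (c - 1)) * a =
            -(P * P) + (a * (c * c) * a + c * (a * a) * c) + 2 * (a * a) - a * a * c + c * (a * a) := by
          rw [hP]; noncomm_ring
        rw [h11, hPP, ha, hc]
        have c3 : ∀ w : A, w * 3 = 3 * w := fun w => (Nat.cast_comm 3 w).symm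
        have h14 : c * (-3 : A) = -3 * c := by rw [mul_neg, neg_mul, c3]
        have h15 : a * (-3 : A) * a = -3 * (a * a) := by
          have : a * (-3 : A) = -3 * a := by rw [mul_neg, neg_mul, c3]
          rw [this, mul_assoc]
        have h16 : c * (-3 : A) * c = -3 * (c * c) := by rw [h14, mul_assoc]
        rw [h15, h16, ha, hc, h14]
        have e1 : (-3 : A) * -3 = 9 := by norm_num
        rw [e1]
        have e2 : (2 : A) * -3 = -6 := by norm_num
        rw [e2]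
        have e3 : (20 : A) = 9 + 9 + 8 - 6 := by norm_num
        rw [e3]; abel
      rw [h9] at h6
      apply Frame.four_ne
      have : D.t (x * (z⁻¹ * x * z)) + D.t (x * (z⁻¹ * x * z)) + D.t (x * (z⁻¹ * x * z)) + D.t (x * (z⁻¹ * x * z)) =
        (D.t (x * (z⁻¹ * x * z)) + D.t (x * (z⁻¹ * x * z)) + D.t (x * (z⁻¹ * x * z)) + D.t (x * (z⁻¹ * x * z)) - 2) + 2 := by abel
      rw [this, ← h6]; abel
    obtain ⟨Φ, h1, h2⟩ := exists_frame_of_t hx hx1 hy hy1 h3
    refine ⟨Φ, fun H hxH hzH => ?_⟩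
    rw [h1, h2]
    exact ⟨hxH, H.inv_mem (H.mul_mem hxH (H.mul_mem (H.mul_mem (H.inv_mem hzH) hxH) hzH))⟩

end exist

end Cfsg.Agent.FC
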