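import Cfsg.Agent.FC.Conf

/-!
Vertices against a quaternion frame; the group generated by the elements of order three.
-/

set_option autoImplicit false
set_option linter.unusedSectionVars false
set_option linter.unusedSimpArgs false

namespace Cfsg.Agent.FC

universe u v

namespace GFrame

open Frame

variable {G : Type u} [Group G] {A : Type v} [Ring A] {D : FPData G A} (Φ : GFrame D)

attribute [local simp] II JJ KK IJ JK KI JI KJ IK II' JJ' KK' IJ' JK' KI' JI' KJ' IK' mul_assoc mul_add add_mul mul_sub sub_mul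

theorem RI : D.R Φ.i * D.R Φ.i = -1 := by rw [Φ.hI, Φ.F.II]
theorem RJ : D.R Φ.j * D.R Φ.j = -1 := by rw [Φ.hJ, Φ.F.JJ]
theorem RK : D.R Φ.k * D.R Φ.k = -1 := by rw [Φ.hK, Φ.F.KK]

theorem R_iinv : D.R Φ.i⁻¹ = - Φ.F.I := by
  calc D.R Φ.i⁻¹ = D.R Φ.i⁻¹ * -(D.R Φ.i * D.R Φ.i) := by rw [Φ.RI, neg_neg, mul_one]
    _ = -(D.R Φ.i⁻¹ * D.R Φ.i * D.R Φ.i) := by noncomm_ring
    _ = - Φ.F.I := by rw [D.inv_mul, one_mul, Φ.hI]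
theorem R_jinv : D.R Φ.j⁻¹ = - Φ.F.J := by
  calc D.R Φ.j⁻¹ = D.R Φ.j⁻¹ * -(D.R Φ.j * D.R Φ.j) := by rw [Φ.RJ, neg_neg, mul_one]
    _ = -(D.R Φ.j⁻¹ * D.R Φ.j * D.R Φ.j) := by noncomm_ring
    _ = - Φ.F.J := by rw [D.inv_mul, one_mul, Φ.hJ]
theorem R_kinv : D.R Φ.k⁻¹ = - Φ.F.K := by
  calc D.R Φ.k⁻¹ = D.R Φ.k⁻¹ * -(D.R Φ.k * D.R Φ.k) := by rw [Φ.RK, neg_neg, mul_one]
    _ = -(D.R Φ.k⁻¹ * D.R Φ.k * D.R Φ.k) := by noncomm_ring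
    _ = - Φ.F.K := by rw [D.inv_mul, one_mul, Φ.hK]

theorem two_X : D.R Φ.x + D.R Φ.x = Φ.F.s - 1 := by
  rw [← Φ.ha, FPData.a]; abel

variable [Algebra ℚ A]

theorem cen_X {u : A} (hu : Φ.F.Cen u) : u * D.R Φ.x = D.R Φ.x * u := by
  apply sub_eq_zero.mp
  apply two_ne
  have h1 : u * Φ.F.s = Φ.F.s * u := by
    rw [Frame.s, mul_add, mul_add, add_mul, add_mul, hu.I, hu.J, hu.K]
  calc u * D.R Φ.x - D.R Φ.x * u + (u * D.R Φ.x - D.R Φ.x * u) = u * (D.R Φ.x + D.R Φ.x) - (D.R Φ.x + D.R Φ.x) * u := by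
        simp; abel
    _ = 0 := by rw [Φ.two_X, mul_sub, sub_mul, h1]; simp

theorem IX : Φ.F.I * D.R Φ.x = D.R Φ.x * Φ.F.J := by
  apply sub_eq_zero.mp
  apply two_ne
  calc Φ.F.I * D.R Φ.x - D.R Φ.x * Φ.F.J + (Φ.F.I * D.R Φ.x - D.R Φ.x * Φ.F.J) =
        Φ.F.I * (D.R Φ.x + D.R Φ.x) - (D.R Φ.x + D.R Φ.x) * Φ.F.J := by simp; abel
    _ = 0 := by rw [Φ.two_X, Frame.s]; simp; abel

theorem JX : Φ.F.J * D.R Φ.x = D.R Φ.x * Φ.F.K := by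
  apply sub_eq_zero.mp
  apply two_ne
  calc Φ.F.J * D.R Φ.x - D.R Φ.x * Φ.F.K + (Φ.F.J * D.R Φ.x - D.R Φ.x * Φ.F.K) =
        Φ.F.J * (D.R Φ.x + D.R Φ.x) - (D.R Φ.x + D.R Φ.x) * Φ.F.K := by simp; abel
    _ = 0 := by rw [Φ.two_X, Frame.s]; simp; abel

theorem KX : Φ.F.K * D.R Φ.x = D.R Φ.x * Φ.F.I := by
  apply sub_eq_zero.mp
  apply two_ne
  calc Φ.F.K * D.R Φ.x - D.R Φ.x * Φ.F.I + (Φ.F.K * D.R Φ.x - D.R Φ.x * Φ.F.I) =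
        Φ.F.K * (D.R Φ.x + D.R Φ.x) - (D.R Φ.x + D.R Φ.x) * Φ.F.I := by simp; abel
    _ = 0 := by rw [Φ.two_X, Frame.s]; simp; abel

theorem XIX : D.R Φ.x⁻¹ * Φ.F.I * D.R Φ.x = Φ.F.J := by rw [mul_assoc, Φ.IX, ← mul_assoc, D.inv_mul, one_mul]
theorem XJX : D.R Φ.x⁻¹ * Φ.F.J * D.R Φ.x = Φ.F.K := by rw [mul_assoc, Φ.JX, ← mul_assoc, D.inv_mul, one_mul]
theorem XKX : D.R Φ.x⁻¹ * Φ.F.K * D.R Φ.x = Φ.F.I := by rw [mul_assoc, Φ.KX, ← mul_assoc, D.inv_mul, one_mul]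
theorem XIX' : D.R Φ.x * Φ.F.I * D.R Φ.x⁻¹ = Φ.F.K := by rw [← Φ.KX, mul_assoc, D.mul_inv, mul_one]
theorem XJX' : D.R Φ.x * Φ.F.J * D.R Φ.x⁻¹ = Φ.F.I := by rw [← Φ.IX, mul_assoc, D.mul_inv, mul_one]
theorem XKX' : D.R Φ.x * Φ.F.K * D.R Φ.x⁻¹ = Φ.F.J := by rw [← Φ.JX, mul_assoc, D.mul_inv, mul_one]

theorem cen_X' {u : A} (hu : Φ.F.Cen u) : u * D.R Φ.x⁻¹ = D.R Φ.x⁻¹ * u := by
  have h := Φ.cen_X hu
  calc u * D.R Φ.x⁻¹ = D.R Φ.x⁻¹ * (D.R Φ.x * u) * D.R Φ.x⁻¹ := by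
        rw [← mul_assoc, D.inv_mul, one_mul]
    _ = D.R Φ.x⁻¹ * u := by rw [← h, mul_assoc, mul_assoc, D.mul_inv, mul_one]

/-- conjugation by `x` of a pure element -/
theorem a2_conj_x {u w y : A} (hu : Φ.F.Cen u) (hw : Φ.F.Cen w) (hy : Φ.F.Cen y) {z : G}
    (h : D.a z + D.a z = Φ.F.I * u + Φ.F.J * w + Φ.F.K * y) :
    D.a (Φ.x⁻¹ * z * Φ.x) + D.a (Φ.x⁻¹ * z * Φ.x) = Φ.F.I * y + Φ.F.J * u + Φ.F.K * w := by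
  rw [D.a_conj, ← add_mul, ← mul_add, h]
  have e : ∀ (B C : A), (D.R Φ.x⁻¹ * B * D.R Φ.x = C) → ∀ t : A, Φ.F.Cen t → D.R Φ.x⁻¹ * (B * t) * D.R Φ.x = C * t := by
    intro B C hBC t ht
    rw [← hBC, mul_assoc, mul_assoc, mul_assoc, mul_assoc, Φ.cen_X ht]
  rw [mul_add, mul_add, add_mul, add_mul, e _ _ Φ.XIX u hu, e _ _ Φ.XJX w hw, e _ _ Φ.XKX y hy]
  abel

theorem a2_conj_x' {u w y : A} (hu : Φ.F.Cen u) (hw : Φ.F.Cen w) (hy : Φ.F.Cen y) {z : G}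
    (h : D.a z + D.a z = Φ.F.I * u + Φ.F.J * w + Φ.F.K * y) :
    D.a (Φ.x * z * Φ.x⁻¹) + D.a (Φ.x * z * Φ.x⁻¹) = Φ.F.I * w + Φ.F.J * y + Φ.F.K * u := by
  have h1 := D.a_conj Φ.x⁻¹ z
  rw [inv_inv] at h1
  rw [h1, ← add_mul, ← mul_add, h]
  have e : ∀ (B C : A), (D.R Φ.x * B * D.R Φ.x⁻¹ = C) → ∀ t : A, Φ.F.Cen t → D.R Φ.x * (B * t) * D.R Φ.x⁻¹ = C * t := by
    intro B C hBC t ht
    rw [← hBC, mul_assoc, mul_assoc, mul_assoc, mul_assoc, Φ.cen_X' ht]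
  rw [mul_add, mul_add, add_mul, add_mul, e _ _ Φ.XIX' u hu, e _ _ Φ.XJX' w hw, e _ _ Φ.XKX' y hy]
  abel

theorem a2_conj_j {u w y : A} (hu : Φ.F.Cen u) (hw : Φ.F.Cen w) (hy : Φ.F.Cen y) {z : G}
    (h : D.a z + D.a z = Φ.F.I * u + Φ.F.J * w + Φ.F.K * y) :
    D.a (Φ.j⁻¹ * z * Φ.j) + D.a (Φ.j⁻¹ * z * Φ.j) = -(Φ.F.I * u) + Φ.F.J * w - Φ.F.K * y := by
  rw [D.a_conj, ← add_mul, ← mul_add, h, Φ.R_jinv, Φ.hJ]
  simp [hu.J, hw.J, hy.J]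
  abel

theorem a2_inv {z : G} (hz : z * z * z = 1) (hz1 : z ≠ 1) :
    D.a z⁻¹ + D.a z⁻¹ = -(D.a z + D.a z) := by
  rw [D.a_inv hz hz1]; abel

/-- the group generated by the frame -/
def S : Subgroup G := Subgroup.closure {Φ.i, Φ.x}

theorem i_mem : Φ.i ∈ Φ.S := Subgroup.subset_closure (by simp)
theorem x_mem : Φ.x ∈ Φ.S := Subgroup.subset_closure (by simp)

variable [Nontrivial A]

theorem xi : Φ.x⁻¹ * Φ.i * Φ.x = Φ.j := by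
  apply D.inj
  rw [map_mul, map_mul, Φ.hI, Φ.hJ, Φ.XIX]
theorem xj : Φ.x⁻¹ * Φ.j * Φ.x = Φ.k := by
  apply D.inj
  rw [map_mul, map_mul, Φ.hJ, Φ.hK, Φ.XJX]
theorem xk : Φ.x⁻¹ * Φ.k * Φ.x = Φ.i := by
  apply D.inj
  rw [map_mul, map_mul, Φ.hK, Φ.hI, Φ.XKX]
theorem ij : Φ.i * Φ.j = Φ.k := by
  apply D.inj
  rw [map_mul, Φ.hI, Φ.hJ, Φ.hK, Φ.F.IJ]

theorem j_mem : Φ.j ∈ Φ.S := by
  rw [← Φ.xi]
  exact Φ.S.mul_mem (Φ.S.mul_mem (Φ.S.inv_mem Φ.x_mem) Φ.i_mem) Φ.x_mem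
theorem k_mem : Φ.k ∈ Φ.S := by
  rw [← Φ.xj]
  exact Φ.S.mul_mem (Φ.S.mul_mem (Φ.S.inv_mem Φ.x_mem) Φ.j_mem) Φ.x_mem

theorem ii_jj : Φ.i * Φ.i = Φ.j * Φ.j := by
  apply D.inj
  rw [map_mul, map_mul, Φ.RI, Φ.RJ]

theorem i4 : Φ.i * Φ.i * Φ.i * Φ.i = 1 := by
  apply D.inj
  rw [map_mul, map_mul, map_mul, Φ.RI, map_one, neg_one_mul, neg_mul, Φ.RI, neg_neg]
theorem j4 : Φ.j * Φ.j * Φ.j * Φ.j = 1 := by
  apply D.inj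
  rw [map_mul, map_mul, map_mul, Φ.RJ, map_one, neg_one_mul, neg_mul, Φ.RJ, neg_neg]

omit Φ in
theorem neg_one_ne : (-1 : A) ≠ 1 := by
  intro h
  have : (1 : A) + 1 = 0 := by
    nth_rewrite 1 [← h]; rw [neg_add_cancel]
  exact one_ne_zero (two_ne this)

theorem i2 : Φ.i * Φ.i ≠ 1 := by
  intro h
  have := congrArg D.R h
  rw [map_mul, Φ.RI, map_one] at this
  exact neg_one_ne this
theorem j2 : Φ.j * Φ.j ≠ 1 := by rw [← Φ.ii_jj]; exact Φ.i2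

omit [Algebra ℚ A] [Nontrivial A] in
theorem a_ii : D.a (Φ.i⁻¹ * Φ.x * Φ.i) = Φ.F.sgnI.s := by
  rw [D.a_conj, Φ.ha, Φ.R_iinv, Φ.hI, Frame.s, Frame.s]
  simp [Frame.sgnI]

omit [Algebra ℚ A] [Nontrivial A] in
theorem a_jj : D.a (Φ.j⁻¹ * Φ.x * Φ.j) = Φ.F.sgnJ.s := by
  rw [D.a_conj, Φ.ha, Φ.R_jinv, Φ.hJ, Frame.s, Frame.s]
  simp [Frame.sgnJ]

omit [Algebra ℚ A] [Nontrivial A] in
theorem a_kk : D.a (Φ.k⁻¹ * Φ.x * Φ.k) = Φ.F.sgnK.s := by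
  rw [D.a_conj, Φ.ha, Φ.R_kinv, Φ.hK, Frame.s, Frame.s]
  simp [Frame.sgnK]

omit [Algebra ℚ A] [Nontrivial A] in
theorem conj3 {z g : G} (hz : z * z * z = 1) : g⁻¹ * z * g * (g⁻¹ * z * g) * (g⁻¹ * z * g) = 1 := by
  have : g⁻¹ * z * g * (g⁻¹ * z * g) * (g⁻¹ * z * g) = g⁻¹ * (z * z * z) * g := by simp [mul_assoc]
  rw [this, hz]; simp

omit [Algebra ℚ A] [Nontrivial A] in
theorem conj1 {z g : G} (hz : z ≠ 1) : g⁻¹ * z * g ≠ 1 := by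
  intro h
  apply hz
  have : z = g * (g⁻¹ * z * g) * g⁻¹ := by simp [mul_assoc]
  rw [this, h]; simp

omit [Algebra ℚ A] [Nontrivial A] in
theorem typeP_of {H : Subgroup G} {x z : G} (hx : x * x * x = 1) (hx1 : x ≠ 1) (hxH : x ∈ H) (hz : z * z * z = 1) (hz1 : z ≠ 1)
    (hzH : z ∉ H) : Frame.TypeP (D.a x * D.a z + D.a z * D.a x) := by
  apply D.typeP hx hx1 hz hz1
  · rintro rfl
    exact hzH hxH
  · intro h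
    apply hzH
    rw [← inv_eq_of_mul_eq_one_right h]
    exact H.inv_mem hxH

theorem vertex {z : G} (hz : z * z * z = 1) (hz1 : z ≠ 1) (hzS : z ∉ Φ.S) :
    ∃ T e d : A, Φ.F.Cen T ∧ T * T = 5 ∧ (e = 1 ∨ e = -1) ∧ (d = 1 ∨ d = -1) ∧
      (D.a z + D.a z = Φ.F.J * (e + T) + d * Φ.F.K * (e - T) ∨ D.a z + D.a z = Φ.F.K * (e + T) + d * Φ.F.I * (e - T) ∨
        D.a z + D.a z = Φ.F.I * (e + T) + d * Φ.F.J * (e - T)) := by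
  apply Frame.main Φ.F (D.a_sq hz hz1)
  · rw [← Φ.ha]; exact typeP_of Φ.x3 Φ.x1 Φ.x_mem hz hz1 hzS
  · rw [← Φ.a_ii]
    exact typeP_of (conj3 Φ.x3) (conj1 Φ.x1)
      (Φ.S.mul_mem (Φ.S.mul_mem (Φ.S.inv_mem Φ.i_mem) Φ.x_mem) Φ.i_mem) hz hz1 hzS
  · rw [← Φ.a_jj]
    exact typeP_of (conj3 Φ.x3) (conj1 Φ.x1)
      (Φ.S.mul_mem (Φ.S.mul_mem (Φ.S.inv_mem Φ.j_mem) Φ.x_mem) Φ.j_mem) hz hz1 hzS
  · rw [← Φ.a_kk]
    exact typeP_of (conj3 Φ.x3) (conj1 Φ.x1)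
      (Φ.S.mul_mem (Φ.S.mul_mem (Φ.S.inv_mem Φ.k_mem) Φ.x_mem) Φ.k_mem) hz hz1 hzS
  · rw [← Φ.hI]; exact D.typeU Φ.i4 Φ.i2 hz hz1
  · rw [← Φ.hJ]; exact D.typeU Φ.j4 Φ.j2 hz hz1

/-- normal form of vertices -/
def IsV (z : G) (T : A) : Prop := z * z * z = 1 ∧ z ≠ 1 ∧ Φ.F.Cen T ∧ T * T = 5 ∧
  D.a z + D.a z = Φ.F.J * (1 + T) + Φ.F.K * (1 - T)

theorem exists_normal {z : G} (hz : z * z * z = 1) (hz1 : z ≠ 1) (hzS : z ∉ Φ.S) :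
    ∃ (z' : G) (T : A), (∀ H : Subgroup G, Φ.S ≤ H → (z' ∈ H ↔ z ∈ H)) ∧ Φ.IsV z' T := by
  have Ec : ∀ g : G, g ∈ Φ.S → ∀ w : G, ∀ H : Subgroup G, Φ.S ≤ H → (g⁻¹ * w * g ∈ H ↔ w ∈ H) := by
    intro g hg w H hH
    constructor
    · intro h
      have : w = g * (g⁻¹ * w * g) * g⁻¹ := by simp [mul_assoc]
      rw [this]
      exact H.mul_mem (H.mul_mem (hH hg) h) (H.inv_mem (hH hg))
    · intro h
      exact H.mul_mem (H.mul_mem (H.inv_mem (hH hg)) h) (hH hg)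
  -- step A
  have stepA : ∃ (z1 : G) (T e d : A), (∀ H : Subgroup G, Φ.S ≤ H → (z1 ∈ H ↔ z ∈ H)) ∧ z1 * z1 * z1 = 1 ∧ z1 ≠ 1 ∧
      Φ.F.Cen T ∧ T * T = 5 ∧ (e = 1 ∨ e = -1) ∧ (d = 1 ∨ d = -1) ∧
      D.a z1 + D.a z1 = Φ.F.J * (e + T) + d * Φ.F.K * (e - T) := by
    obtain ⟨T, e, d, hT, hTT, he, hd, h⟩ := Φ.vertex hz hz1 hzS
    have heC : Φ.F.Cen e := by
      rcases he with rfl | rfl
      · exact Cen.one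
      · exact Cen.one.neg
    have hdC : Φ.F.Cen d := by
      rcases hd with rfl | rfl
      · exact Cen.one
      · exact Cen.one.neg
    rcases h with h | h | h
    · exact ⟨z, T, e, d, fun _ _ => Iff.rfl, hz, hz1, hT, hTT, he, hd, h⟩
    · have h1 := Φ.a2_conj_x' (z := z) (hdC.mul (heC.sub hT)) Cen.zero (heC.add hT)
        (by rw [h, mul_zero, add_zero, hdC.I, mul_assoc, add_comm])
      refine ⟨Φ.x * z * Φ.x⁻¹, T, e, d, ?_, ?_, ?_, hT, hTT, he, hd, ?_⟩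
      · intro H hH
        have := Ec Φ.x⁻¹ (Φ.S.inv_mem Φ.x_mem) z H hH
        rwa [inv_inv] at this
      · have := conj3 (g := Φ.x⁻¹) hz
        rwa [inv_inv] at this
      · have := conj1 (g := Φ.x⁻¹) hz1
        rwa [inv_inv] at this
      · rw [h1, mul_zero, zero_add, hdC.K, mul_assoc]
    · have h1 := Φ.a2_conj_x (z := z) (heC.add hT) (hdC.mul (heC.sub hT)) Cen.zero
        (by rw [h, mul_zero, add_zero, hdC.J, mul_assoc])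
      refine ⟨Φ.x⁻¹ * z * Φ.x, T, e, d, Ec _ Φ.x_mem z, conj3 hz, conj1 hz1, hT, hTT, he, hd, ?_⟩
      rw [h1, mul_zero, zero_add, hdC.K, mul_assoc]
  obtain ⟨z1, T, e, d, hE, h3, h1, hT, hTT, he, hd, hz1'⟩ := stepA
  -- step B
  have stepB : ∃ (z2 : G), (∀ H : Subgroup G, Φ.S ≤ H → (z2 ∈ H ↔ z ∈ H)) ∧ z2 * z2 * z2 = 1 ∧ z2 ≠ 1 ∧
      D.a z2 + D.a z2 = Φ.F.J * (e + T) + Φ.F.K * (e - T) := by
    have heC : Φ.F.Cen e := by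
      rcases he with rfl | rfl
      · exact Cen.one
      · exact Cen.one.neg
    rcases hd with rfl | rfl
    · exact ⟨z1, hE, h3, h1, by rw [hz1', one_mul]⟩
    · have h4 := Φ.a2_conj_j (z := z1) Cen.zero (heC.add hT) (heC.sub hT).neg
        (by rw [hz1', mul_zero, zero_add, neg_one_mul, neg_mul, mul_neg])
      refine ⟨Φ.j⁻¹ * z1 * Φ.j, fun H hH => (Ec _ Φ.j_mem z1 H hH).trans (hE H hH), conj3 h3, conj1 h1, ?_⟩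
      rw [h4, mul_zero, neg_zero, zero_add, mul_neg, sub_neg_eq_add]
  obtain ⟨z2, hE2, h32, h12, hz2⟩ := stepB
  rcases he with rfl | rfl
  · exact ⟨z2, T, hE2, h32, h12, hT, hTT, hz2⟩
  · refine ⟨z2⁻¹, -T, fun H hH => (H.inv_mem_iff).trans (hE2 H hH), ?_, ?_, hT.neg, ?_, ?_⟩
    · rw [← _root_.mul_inv_rev, ← _root_.mul_inv_rev, ← mul_assoc, h32, inv_one]
    · rwa [Ne, inv_eq_one]
    · rw [neg_mul_neg, hTT]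
    · rw [a2_inv h32 h12, hz2]
      simp; abel

/-- every element of order three lies in the group generated by the frame and one vertex -/
theorem mem_of {H : Subgroup G} (hS : Φ.S ≤ H) {y : G} (hyH : y ∈ H) (hyS : y ∉ Φ.S) (hy : y * y * y = 1) (hy1 : y ≠ 1)
    {z : G} (hz : z * z * z = 1) : z ∈ H := by
  by_contra hzH
  have hz1 : z ≠ 1 := by rintro rfl; exact hzH H.one_mem
  have hzS : z ∉ Φ.S := fun h => hzH (hS h)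
  obtain ⟨y', s, hE, hy3', hy1', hs, hss, hb⟩ := Φ.exists_normal hy hy1 hyS
  obtain ⟨z', T, hE', hz3', hz1', hT, hTT, hc⟩ := Φ.exists_normal hz hz1 hzS
  have hy'H : y' ∈ H := (hE H hS).mpr hyH
  have hz'H : z' ∉ H := fun h => hzH ((hE' H hS).mp h)
  have hb' : D.a y' + D.a y' = Φ.F.I * 0 + Φ.F.J * (1 + s) + Φ.F.K * (1 - s) := by rw [hb, mul_zero, zero_add]
  have hb1 := Φ.a2_conj_j Cen.zero (Cen.one.add hs) (Cen.one.sub hs) hb'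
  have hb2 := Φ.a2_conj_x Cen.zero (Cen.one.add hs) (Cen.one.sub hs) hb'
  refine Frame.no_two (F := Φ.F) (b1 := D.a (Φ.j⁻¹ * y' * Φ.j)) (b2 := D.a (Φ.x⁻¹ * y' * Φ.x)) hs hT hss hTT hb ?_ ?_ hc
    (typeP_of hy3' hy1' hy'H hz3' hz1' hz'H) ?_ ?_
  · rw [hb1, mul_zero, neg_zero, zero_add]
  · rw [hb2, mul_zero, add_zero, add_comm]
  · exact typeP_of (conj3 hy3') (conj1 hy1') (H.mul_mem (H.mul_mem (H.inv_mem (hS Φ.j_mem)) hy'H) (hS Φ.j_mem)) hz3' hz1' hz'H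
  · exact typeP_of (conj3 hy3') (conj1 hy1') (H.mul_mem (H.mul_mem (H.inv_mem (hS Φ.x_mem)) hy'H) (hS Φ.x_mem)) hz3' hz1' hz'H

end GFrame

end Cfsg.Agent.FC
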