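import Cfsg.Agent.FC.Quat3

/-!
Two icosahedral vertices over the same quaternion frame: contradiction.
-/

set_option autoImplicit false
set_option linter.unusedSectionVars false
set_option linter.unusedSimpArgs false

namespace Cfsg.Agent.FC

universe u

namespace Frame

variable {A : Type u} [Ring A] {F : Frame A}

attribute [local simp] II JJ KK IJ JK KI JI KJ IK II' JJ' KK' IJ' JK' KI' JI' KJ' IK' mul_assoc mul_add add_mul mul_sub sub_mul

/-- `b = (J(1+s)+K(1-s))/2`, `c = (J(1+T)+K(1-T))/2` cannot both be vertices unless equal. -/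
theorem no_two [Algebra ℚ A] [Nontrivial A] {s T b b1 b2 c : A} (hs : F.Cen s) (hT : F.Cen T) (hss : s * s = 5) (hTT : T * T = 5)
    (hb : b + b = F.J * (1 + s) + F.K * (1 - s)) (hb1 : b1 + b1 = F.J * (1 + s) - F.K * (1 - s))
    (hb2 : b2 + b2 = F.K * (1 + s) + F.I * (1 - s)) (hc : c + c = F.J * (1 + T) + F.K * (1 - T))
    (hP : TypeP (b * c + c * b)) (hP1 : TypeP (b1 * c + c * b1)) (hP2 : TypeP (b2 * c + c * b2)) : False := by
  have : CharZero A := algebraRat.charZero A
  set N := s * T + T * s with hN
  set q := s * T - T * s with hq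
  have hNC : F.Cen N := (hs.mul hT).add (hT.mul hs)
  have hqC : F.Cen q := (hs.mul hT).sub (hT.mul hs)
  have hss' : ∀ w, s * (s * w) = 5 * w := fun w => by rw [← mul_assoc, hss]
  have hTT' : ∀ w, T * (T * w) = 5 * w := fun w => by rw [← mul_assoc, hTT]
  have h5s : ∀ w : A, w * 5 = 5 * w := fun w => (Nat.cast_comm 5 w).symm
  -- 4 (bc + cb) = -2 (2 + N)
  have e0 : b * c + c * b + (b * c + c * b) = -(2 + N) := by
    apply sub_eq_zero.mp
    apply two_ne
    have h4 : (b + b) * (c + c) + (c + c) * (b + b) = (b * c + c * b + (b * c + c * b)) + (b * c + c * b + (b * c + c * b)) := by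
      simp; abel
    have h5 : (b + b) * (c + c) + (c + c) * (b + b) = -(2 + N) + -(2 + N) := by
      rw [hb, hc, hN]
      simp [hs.I, hs.J, hs.K, hs.I', hs.J', hs.K', hT.I, hT.J, hT.K, hT.I', hT.J', hT.K']
      have e2 : (2 : A) = 1 + 1 := one_add_one_eq_two.symm
      rw [e2]; abel
    calc b * c + c * b + (b * c + c * b) - -(2 + N) + (b * c + c * b + (b * c + c * b) - -(2 + N)) =
        ((b * c + c * b + (b * c + c * b)) + (b * c + c * b + (b * c + c * b))) - (-(2 + N) + -(2 + N)) := by abel
      _ = 0 := by rw [← h4, h5, sub_self]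
  have e1 : b1 * c + c * b1 + (b1 * c + c * b1) = -(s + T + (s + T)) - F.I * q := by
    apply sub_eq_zero.mp
    apply two_ne
    have h4 : (b1 + b1) * (c + c) + (c + c) * (b1 + b1) = (b1 * c + c * b1 + (b1 * c + c * b1)) + (b1 * c + c * b1 + (b1 * c + c * b1)) := by
      simp; abel
    have h5 : (b1 + b1) * (c + c) + (c + c) * (b1 + b1) = (-(s + T + (s + T)) - F.I * q) + (-(s + T + (s + T)) - F.I * q) := by
      rw [hb1, hc, hq]
      simp [hs.I, hs.J, hs.K, hs.I', hs.J', hs.K', hT.I, hT.J, hT.K, hT.I', hT.J', hT.K']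
      abel
    calc b1 * c + c * b1 + (b1 * c + c * b1) - (-(s + T + (s + T)) - F.I * q) +
          (b1 * c + c * b1 + (b1 * c + c * b1) - (-(s + T + (s + T)) - F.I * q)) =
        ((b1 * c + c * b1 + (b1 * c + c * b1)) + (b1 * c + c * b1 + (b1 * c + c * b1))) -
          ((-(s + T + (s + T)) - F.I * q) + (-(s + T + (s + T)) - F.I * q)) := by abel
      _ = 0 := by rw [← h4, h5, sub_self]
  have e2 : (b2 * c + c * b2) + (b2 * c + c * b2) + ((b2 * c + c * b2) + (b2 * c + c * b2)) =
      -(2 + (s - T) + (s - T) - N) - F.I * q - F.J * q - F.K * q := by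
    have h4 : (b2 + b2) * (c + c) + (c + c) * (b2 + b2) = (b2 * c + c * b2 + (b2 * c + c * b2)) + (b2 * c + c * b2 + (b2 * c + c * b2)) := by
      simp; abel
    rw [← h4, hb2, hc, hN, hq]
    simp [hs.I, hs.J, hs.K, hs.I', hs.J', hs.K', hT.I, hT.J, hT.K, hT.I', hT.J', hT.K']
    have e2 : (2 : A) = 1 + 1 := one_add_one_eq_two.symm
    rw [e2]; abel
  have ac1 : s * q + q * s = 0 := by rw [hq]; simp [hss, hTT, hss', hTT', h5s]
  have ac2 : T * q + q * T = 0 := by rw [hq]; simp [hss, hTT, hss', hTT', h5s]
  have hqq : q * q = N * N - 100 := by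
    have h1 : N * N - q * q = (s * T) * (T * s) + (s * T) * (T * s) + ((T * s) * (s * T) + (T * s) * (s * T)) := by
      rw [hN, hq]; simp only [mul_add, add_mul, mul_sub, sub_mul]; abel
    have h2 : (s * T) * (T * s) = 25 := by
      rw [mul_assoc, hTT', ← mul_assoc, h5s s, mul_assoc, hss]; norm_num
    have h3 : (T * s) * (s * T) = 25 := by
      rw [mul_assoc, hss', ← mul_assoc, h5s T, mul_assoc, hTT]; norm_num
    rw [h2, h3] at h1
    have e100 : (100 : A) = 25 + 25 + (25 + 25) := by norm_num
    rw [e100, ← h1]; abel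
  have hsTsq : (s + T) * (s + T) = 10 + N := by
    have e10 : (10 : A) = 5 + 5 := by norm_num
    rw [hN, e10, mul_add, add_mul, add_mul, hss, hTT]; abel
  -- Step 1
  have hN1 : N * N = 4 * N + 60 := by
    have hlin : ∀ e : A, (e = 2 ∨ e = -2) → b1 * c + c * b1 = e → False := by
      intro e he h
      have heC : F.Cen e := by
        rcases he with rfl | rfl
        · exact Cen.ofNat 2
        · exact (Cen.ofNat 2).neg
      rw [h] at e1
      have h4 : (e + e + (s + T + (s + T))) + F.I * q + F.J * 0 + F.K * 0 = 0 := by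
        rw [e1]; simp; abel
      obtain ⟨x0, x1, -, -⟩ := F.uniq ((heC.add heC).add ((hs.add hT).add (hs.add hT))) hqC Cen.zero Cen.zero h4
      have x2 : e + (s + T) = 0 := by
        apply two_ne
        rw [← x0]; abel
      have x3 : T = -e - s := by
        have : T = (e + (s + T)) - e - s := by abel
        rw [this, x2]; abel
      have h2s : (2 : A) * s = s * 2 := Nat.cast_comm 2 s
      have hes : e * s = s * e := by
        rcases he with rfl | rfl
        · exact h2s
        · rw [neg_mul, mul_neg, h2s]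
      have hee : e * e = 4 := by rcases he with rfl | rfl <;> norm_num
      rw [x3] at hTT
      have x4 : (-e - s) * (-e - s) = e * e + s * s + (e * s + e * s) := by
        simp [hes]; abel
      rw [x4, hee, hss] at hTT
      have x5 : 4 + (e * s + e * s) = 0 := by
        have : 4 + (e * s + e * s) = (4 + 5 + (e * s + e * s)) - 5 := by abel
        rw [this, hTT, sub_self]
      have x6 : e * s = -2 := by
        apply sub_eq_zero.mp
        apply two_ne
        have e4 : (4 : A) = 2 + 2 := by norm_num
        rw [e4] at x5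
        rw [← x5]; abel
      have x7 : (e * s) * (e * s) = 20 := by
        have : (e * s) * (e * s) = (e * e) * (s * s) := by
          calc (e * s) * (e * s) = e * (s * e) * s := by simp only [_root_.mul_assoc]
            _ = e * (e * s) * s := by rw [hes]
            _ = (e * e) * (s * s) := by simp only [_root_.mul_assoc]
        rw [this, hee, hss]; norm_num
      rw [x6] at x7
      norm_num at x7
    rcases hP1 with h | h | h
    · exact (hlin 2 (Or.inl rfl) h).elim
    · exact (hlin (-2) (Or.inr rfl) h).elim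
    · have h4 : (b1 * c + c * b1 + (b1 * c + c * b1)) * (b1 * c + c * b1 + (b1 * c + c * b1)) = 80 := by
        have e80 : (80 : A) = 20 + 20 + (20 + 20) := by norm_num
        rw [e80, ← h]
        generalize b1 * c + c * b1 = X
        rw [mul_add, add_mul]
      rw [e1] at h4
      have h5 : (-(s + T + (s + T)) - F.I * q) * (-(s + T + (s + T)) - F.I * q) =
          ((s + T) * (s + T) + (s + T) * (s + T) + ((s + T) * (s + T) + (s + T) * (s + T))) - q * q +
          (F.I * ((s * q + q * s) + (T * q + q * T)) + F.I * ((s * q + q * s) + (T * q + q * T))) := by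
        have := hqC.I
        have := hqC.I'
        simp [hs.I, hT.I, hqC.I, hs.I', hT.I', hqC.I']
        abel
      rw [h5, ac1, ac2, hsTsq, hqq] at h4
      have e4 : (4 : A) = 1 + 1 + (1 + 1) := by norm_num
      have e60 : (60 : A) = 10 + 10 + (10 + 10) + 100 - 80 := by norm_num
      rw [e60, ← h4, e4]
      simp
      abel
  have hN2 : N = -6 := by
    have hne2 : N ≠ 2 := by
      intro h
      rw [h] at hN1
      norm_num at hN1
    rcases hP with h | h | h
    · rw [h] at e0
      have : N = -(-(2 + N)) - 2 := by abel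
      rw [this, ← e0]; norm_num
    · rw [h] at e0
      exfalso
      apply hne2
      have : N = -(-(2 + N)) - 2 := by abel
      rw [this, ← e0]; norm_num
    · exfalso
      have h4 : (b * c + c * b + (b * c + c * b)) * (b * c + c * b + (b * c + c * b)) = 80 := by
        have e80 : (80 : A) = 20 + 20 + (20 + 20) := by norm_num
        rw [e80, ← h]
        generalize b * c + c * b = X
        rw [mul_add, add_mul]
      rw [e0, neg_mul_neg] at h4
      have h2N : (2 : A) * N = N * 2 := Nat.cast_comm 2 N
      have h5 : (2 + N) * (2 + N) = 4 + 4 * N + N * N := by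
        have e4 : (4 : A) = 2 + 2 := by norm_num
        have e22 : (2 : A) * 2 = 2 + 2 := by norm_num
        clear_value N
        rw [mul_add, add_mul, add_mul, ← h2N, e22, e4, add_mul]; abel
      rw [h5, hN1] at h4
      apply hne2
      apply sub_eq_zero.mp
      apply five_ne (n := 8) (by norm_num)
      have e8 : ((8 : ℕ) : A) * (N - 2) = (4 + 4 * N + (4 * N + 60)) - 80 := by
        have : ((8 : ℕ) : A) = 4 + 4 := by norm_num
        have e64 : (4 : A) * 2 = 8 := by norm_num
        rw [this, add_mul, mul_sub, e64]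
        have e80 : (80 : A) = 4 + 60 + 8 + 8 := by norm_num
        rw [e80]; abel
      rw [e8, h4, sub_self]
  -- Step 3
  have hq0 : q = 0 := by
    rw [hN2] at e2
    have hlin : ∀ e : A, F.Cen e → b2 * c + c * b2 = e → q = 0 := by
      intro e heC h
      rw [h] at e2
      have h4 : (e + e + (e + e) + (2 + (s - T) + (s - T) - -6)) + F.I * q + F.J * q + F.K * q = 0 := by
        rw [e2]; abel
      exact (F.uniq (((heC.add heC).add (heC.add heC)).add
        ((((Cen.ofNat 2).add (hs.sub hT)).add (hs.sub hT)).sub (Cen.ofNat 6).neg)) hqC hqC hqC h4).2.1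
    rcases hP2 with h | h | h
    · exact hlin 2 (Cen.ofNat 2) h
    · exact hlin (-2) (Cen.ofNat 2).neg h
    · have h4 : ((b2 * c + c * b2) + (b2 * c + c * b2) + ((b2 * c + c * b2) + (b2 * c + c * b2))) *
          ((b2 * c + c * b2) + (b2 * c + c * b2) + ((b2 * c + c * b2) + (b2 * c + c * b2))) = 320 := by
        have e320 : (320 : A) = (20 + 20 + (20 + 20)) + (20 + 20 + (20 + 20)) + ((20 + 20 + (20 + 20)) + (20 + 20 + (20 + 20))) := by norm_num
        rw [e320, ← h]
        generalize b2 * c + c * b2 = X
        simp only [mul_add, add_mul]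
      rw [e2] at h4
      set p := 2 + (s - T) + (s - T) - -6 with hp
      have hpC : F.Cen p := (((Cen.ofNat 2).add (hs.sub hT)).add (hs.sub hT)).sub (Cen.ofNat 6).neg
      have h5 : (p * p - (q * q + q * q + q * q) - 320) + F.I * (p * q + q * p) + F.J * (p * q + q * p) +
          F.K * (p * q + q * p) = 0 := by
        have : (-p - F.I * q - F.J * q - F.K * q) * (-p - F.I * q - F.J * q - F.K * q) - 320 = 0 := by rw [h4, sub_self]
        rw [← this]
        simp [hpC.I, hpC.J, hpC.K, hpC.I', hpC.J', hpC.K', hqC.I, hqC.J, hqC.K, hqC.I', hqC.J', hqC.K']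
        abel
      have h6 := (F.uniq (((hpC.mul hpC).sub (((hqC.mul hqC).add (hqC.mul hqC)).add (hqC.mul hqC))).sub (Cen.ofNat 320))
        ((hpC.mul hqC).add (hqC.mul hpC)) ((hpC.mul hqC).add (hqC.mul hpC)) ((hpC.mul hqC).add (hqC.mul hpC)) h5).2.1
      have h7 : p * q + q * p = (16 : A) * q + ((s * q + q * s) + (s * q + q * s)) - ((T * q + q * T) + (T * q + q * T)) := by
        have e16 : (16 : A) = 2 + 6 + (2 + 6) := by norm_num
        rw [hp, e16]
        have h2q : q * 2 = 2 * q := (Nat.cast_comm 2 q).symm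
        have h6q : q * 6 = 6 * q := (Nat.cast_comm 6 q).symm
        simp only [mul_add, add_mul, mul_sub, sub_mul, h2q, h6q, mul_neg, neg_mul]
        abel
      rw [h7, ac1, ac2] at h6
      apply five_ne (n := 16) (by norm_num)
      rw [Nat.cast_ofNat]
      simpa using h6
  -- Step 4
  have hcomm : s * T = T * s := sub_eq_zero.mp hq0
  have h8 : s * T = -3 := by
    apply sub_eq_zero.mp
    apply two_ne
    have e6 : (6 : A) = 3 + 3 := by norm_num
    have : s * T - -3 + (s * T - -3) = N - -6 := by rw [hN, ← hcomm, e6]; abel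
    rw [this, hN2, sub_self]
  have h9 : (s * T) * (s * T) = 25 := by
    nth_rewrite 2 [hcomm]
    rw [mul_assoc, hTT', ← mul_assoc, h5s s, mul_assoc, hss]; norm_num
  rw [h8] at h9
  norm_num at h9

end Frame

end Cfsg.Agent.FC
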