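import Cfsg.Agent.FC.Order
import Cfsg.Agent.FC.Quat4

/-!
Fixed-point-free data: elements of small order in the algebra.
-/

set_option autoImplicit false
set_option linter.unusedSectionVars false

namespace Cfsg.Agent.FC

universe u v

/-- fixed-point-free data of a group in an algebra -/
structure FPData (G : Type u) [Group G] (A : Type v) [Ring A] where
  R : G →* A
  unit : ∀ g : G, g ≠ 1 → IsUnit (R g - 1)
  o33 : ∀ x z : G, x * x * x = 1 → x ≠ 1 → z * z * z = 1 → z ≠ 1 → x ≠ z → x * z ≠ 1 →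
    orderOf (x * z) = 4 ∨ orderOf (x * z) = 6 ∨ orderOf (x * z) = 10
  o43 : ∀ i z : G, i * i * i * i = 1 → i * i ≠ 1 → z * z * z = 1 → z ≠ 1 → i * z ≠ z * i →
    orderOf (i * z) = 3 ∨ orderOf (i * z) = 4 ∨ orderOf (i * z) = 5 ∨ orderOf (i * z) = 6 ∨
      orderOf (i * z) = 8 ∨ orderOf (i * z) = 10

theorem exists_fpData {G : Type u} [Group G] [Finite G] (h : HasMat ℚ G) :
    ∃ n : ℕ, 0 < n ∧ Nonempty (FPData G (Matrix (Fin n) (Fin n) ℚ)) := by
  classical
  obtain ⟨m, ⟨V⟩⟩ := exists_realFPF h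
  obtain ⟨n, R, hn, hR⟩ := h
  letI := Fintype.ofFinite G
  exact ⟨n, hn, ⟨⟨R, fun g hg => isUnit_sub_one hR hg, fun x z h1 h2 h3 h4 h5 h6 => V.orderOf_three_three h1 h2 h3 h4 h5 h6,
    fun i z h1 h2 h3 h4 h5 => V.orderOf_four_three h1 h2 h3 h4 h5⟩⟩⟩

namespace FPData

variable {G : Type u} [Group G] {A : Type v} [Ring A] (D : FPData G A)

theorem inj [Nontrivial A] : Function.Injective D.R := by
  rw [injective_iff_map_eq_one]
  intro g hg
  by_contra h
  have := D.unit g h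
  rw [hg, sub_self] at this
  exact not_isUnit_zero this

/-- the trace-like element -/
def t (g : G) : A := D.R g + D.R g⁻¹

theorem mul_inv (g : G) : D.R g * D.R g⁻¹ = 1 := by rw [← map_mul, mul_inv_cancel, map_one]
theorem inv_mul (g : G) : D.R g⁻¹ * D.R g = 1 := by rw [← map_mul, inv_mul_cancel, map_one]

theorem sum3 {x : G} (hx : x * x * x = 1) (hx1 : x ≠ 1) : D.R x * D.R x + D.R x + 1 = 0 := by
  have h1 := D.unit x hx1
  have h2 : (D.R x - 1) * (D.R x * D.R x + D.R x + 1) = 0 := by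
    have h3 : D.R x * D.R x * D.R x = 1 := by rw [← map_mul, ← map_mul, hx, map_one]
    have h4 : (D.R x - 1) * (D.R x * D.R x + D.R x + 1) = D.R x * D.R x * D.R x - 1 := by noncomm_ring
    rw [h4, h3, sub_self]
  exact (h1.mul_right_eq_zero).mp h2

theorem inv3 {x : G} (hx : x * x * x = 1) (hx1 : x ≠ 1) : D.R x⁻¹ = -1 - D.R x := by
  have h1 : x⁻¹ = x * x := inv_eq_of_mul_eq_one_left hx
  have h2 := D.sum3 hx hx1
  rw [h1, map_mul]
  have : D.R x * D.R x = (D.R x * D.R x + D.R x + 1) - 1 - D.R x := by abel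
  rw [this, h2]; abel

theorem t3 {x : G} (hx : x * x * x = 1) (hx1 : x ≠ 1) : D.t x = -1 := by
  rw [t, D.inv3 hx hx1]; abel

theorem sq2 {x : G} (hx : x * x = 1) (hx1 : x ≠ 1) : D.R x = -1 := by
  have h1 := D.unit x hx1
  have h2 : (D.R x - 1) * (D.R x + 1) = 0 := by
    have h3 : D.R x * D.R x = 1 := by rw [← map_mul, hx, map_one]
    have h4 : (D.R x - 1) * (D.R x + 1) = D.R x * D.R x - 1 := by noncomm_ring
    rw [h4, h3, sub_self]
  exact eq_neg_of_add_eq_zero_left ((h1.mul_right_eq_zero).mp h2)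

theorem sq4 {x : G} (hx : x * x * x * x = 1) (hx1 : x * x ≠ 1) : D.R x * D.R x = -1 := by
  rw [← map_mul]
  exact D.sq2 (by rw [← hx]; group) hx1

theorem inv4 {x : G} (hx : x * x * x * x = 1) (hx1 : x * x ≠ 1) : D.R x⁻¹ = - D.R x := by
  have h1 := D.sq4 hx hx1
  calc D.R x⁻¹ = D.R x⁻¹ * -(D.R x * D.R x) := by rw [h1, neg_neg, mul_one]
    _ = -(D.R x⁻¹ * D.R x * D.R x) := by noncomm_ring
    _ = - D.R x := by rw [D.inv_mul, one_mul]

theorem t4 {x : G} (hx : orderOf x = 4) : D.t x = 0 := by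
  have h1 : x * x * x * x = 1 := by
    have := pow_orderOf_eq_one x
    rw [hx] at this
    rw [← this]; simp only [pow_succ, pow_zero, one_mul]
  have h2 : x * x ≠ 1 := by
    intro h
    have := orderOf_dvd_of_pow_eq_one (show x ^ 2 = 1 by rw [pow_two]; exact h)
    rw [hx] at this
    omega
  rw [t, D.inv4 h1 h2, add_neg_cancel]

theorem t3' {x : G} (hx : orderOf x = 3) : D.t x = -1 := by
  apply D.t3
  · have := pow_orderOf_eq_one x
    rw [hx] at this
    rw [← this]; simp only [pow_succ, pow_zero, one_mul]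
  · rintro rfl
    rw [orderOf_one] at hx
    omega

theorem t6 {x : G} (hx : orderOf x = 6) : D.t x = 1 := by
  have h0 := pow_orderOf_eq_one x
  rw [hx] at h0
  have h1 : D.R (x ^ 3) = -1 := D.sq2 (by rw [← h0]; group) (by
    intro h
    have := orderOf_dvd_of_pow_eq_one h
    rw [hx] at this
    omega)
  have h2 : D.R (x ^ 4) = - D.R x := by
    rw [show x ^ 4 = x ^ 3 * x by group, map_mul, h1, neg_one_mul]
  have h3 : D.R (x ^ 4)⁻¹ = - D.R x⁻¹ := by
    have h4 : (x ^ 4)⁻¹ = x ^ 3 * x⁻¹ := by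
      rw [inv_eq_iff_mul_eq_one]
      calc x ^ 4 * (x ^ 3 * x⁻¹) = x ^ 6 := by group
        _ = 1 := h0
    rw [h4, map_mul, h1, neg_one_mul]
  have h4 : D.t (x ^ 4) = -1 := by
    apply D.t3
    · calc x ^ 4 * x ^ 4 * x ^ 4 = (x ^ 6) ^ 2 := by group
        _ = 1 := by rw [h0, one_pow]
    · intro h
      have := orderOf_dvd_of_pow_eq_one h
      rw [hx] at this
      omega
  rw [t, h2, h3] at h4
  rw [t, ← neg_inj, neg_add, h4]

theorem t8 {x : G} (hx : orderOf x = 8) : D.t x * D.t x = 2 := by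
  have h0 := pow_orderOf_eq_one x
  rw [hx] at h0
  have h2 : orderOf (x ^ 2) = 4 := by
    rw [orderOf_pow' x (by norm_num), hx]; rfl
  have h3 := D.t4 h2
  have h4 : D.t x * D.t x = D.t (x ^ 2) + 2 := by
    have e1 : D.R (x ^ 2) = D.R x * D.R x := by rw [← map_mul, pow_two]
    have e2 : D.R (x ^ 2)⁻¹ = D.R x⁻¹ * D.R x⁻¹ := by rw [← map_mul]; congr 1; group
    rw [t, t, e1, e2, add_mul, mul_add, mul_add, D.mul_inv, D.inv_mul, ← one_add_one_eq_two]
    abel
  rw [h4, h3, zero_add]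

theorem t5 {x : G} (hx : orderOf x = 5) : D.t x * D.t x + D.t x = 1 := by
  have h0 := pow_orderOf_eq_one x
  rw [hx] at h0
  have h1 : x ≠ 1 := by
    rintro rfl
    rw [orderOf_one] at hx
    omega
  have hu := D.unit x h1
  have e1 : D.R (x ^ 2) = D.R x * D.R x := by rw [← map_mul, pow_two]
  have e2 : D.R x⁻¹ * D.R x⁻¹ = D.R (x ^ 3) := by
    rw [← map_mul]; congr 1
    calc x⁻¹ * x⁻¹ = x⁻¹ * x⁻¹ * x ^ 5 := by rw [h0, mul_one]
      _ = x ^ 3 := by group
  have e3 : D.R x⁻¹ = D.R (x ^ 4) := by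
    congr 1
    calc x⁻¹ = x⁻¹ * x ^ 5 := by rw [h0, mul_one]
      _ = x ^ 4 := by group
  have h3 : (D.R x - 1) * (D.t x * D.t x + D.t x - 1) = 0 := by
    have h4 : D.t x * D.t x + D.t x - 1 = D.R x ^ 4 + D.R x ^ 3 + D.R x ^ 2 + D.R x + 1 := by
      rw [t, add_mul, mul_add, mul_add, D.mul_inv, D.inv_mul, e2, e3, map_pow, map_pow, pow_two]
      abel
    have h5 : (D.R x - 1) * (D.R x ^ 4 + D.R x ^ 3 + D.R x ^ 2 + D.R x + 1) = D.R x ^ 5 - 1 := by noncomm_ring
    rw [h4, h5, ← map_pow, h0, map_one, sub_self]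
  exact sub_eq_zero.mp ((hu.mul_right_eq_zero).mp h3)

theorem t10 {x : G} (hx : orderOf x = 10) : D.t x * D.t x - D.t x = 1 := by
  have h0 := pow_orderOf_eq_one x
  rw [hx] at h0
  have h1 : D.R (x ^ 5) = -1 := D.sq2 (by rw [← h0]; group) (by
    intro h
    have := orderOf_dvd_of_pow_eq_one h
    rw [hx] at this
    omega)
  have h2 : D.R (x ^ 6) = - D.R x := by
    rw [show x ^ 6 = x ^ 5 * x by group, map_mul, h1, neg_one_mul]
  have h3 : D.R (x ^ 6)⁻¹ = - D.R x⁻¹ := by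
    have h4 : (x ^ 6)⁻¹ = x ^ 5 * x⁻¹ := by
      rw [inv_eq_iff_mul_eq_one]
      calc x ^ 6 * (x ^ 5 * x⁻¹) = x ^ 10 := by group
        _ = 1 := h0
    rw [h4, map_mul, h1, neg_one_mul]
  have h6 : orderOf (x ^ 6) = 5 := by rw [orderOf_pow' x (by norm_num), hx]; rfl
  have h4 := D.t5 h6
  have h5 : D.t (x ^ 6) = - D.t x := by rw [t, h2, h3, t, neg_add]
  rw [h5, neg_mul_neg, ← sub_eq_add_neg] at h4
  exact h4

/-- the pure part of an element of order three -/
def a (x : G) : A := D.R x + D.R x + 1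

theorem a_sq {x : G} (hx : x * x * x = 1) (hx1 : x ≠ 1) : D.a x * D.a x = -3 := by
  have h2 := D.sum3 hx hx1
  have h3 : D.a x * D.a x = (D.R x * D.R x + D.R x + 1) + (D.R x * D.R x + D.R x + 1) +
      (D.R x * D.R x + D.R x + 1) + (D.R x * D.R x + D.R x + 1) - (1 + 1 + 1) := by
    rw [a]; noncomm_ring
  have e3 : (3 : A) = 1 + 1 + 1 := by norm_num
  rw [h3, h2, e3]; abel

theorem a_inv {x : G} (hx : x * x * x = 1) (hx1 : x ≠ 1) : D.a x⁻¹ = - D.a x := by
  rw [a, D.inv3 hx hx1, a]; abel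

theorem a_conj (g x : G) : D.a (g⁻¹ * x * g) = D.R g⁻¹ * D.a x * D.R g := by
  rw [a, a, map_mul, map_mul, mul_add, mul_add, add_mul, add_mul, mul_one, D.inv_mul]

theorem t_eq {x z : G} (hx : x * x * x = 1) (hx1 : x ≠ 1) (hz : z * z * z = 1) (hz1 : z ≠ 1) :
    D.t (x * z) = D.R x * D.R z + D.R z * D.R x + D.R x + D.R z + 1 := by
  rw [t, _root_.mul_inv_rev, map_mul, map_mul, D.inv3 hx hx1, D.inv3 hz hz1]
  noncomm_ring

theorem P_eq {x z : G} (hx : x * x * x = 1) (hx1 : x ≠ 1) (hz : z * z * z = 1) (hz1 : z ≠ 1) :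
    D.a x * D.a z + D.a z * D.a x = D.t (x * z) + D.t (x * z) + D.t (x * z) + D.t (x * z) - 2 := by
  rw [D.t_eq hx hx1 hz hz1, a, a, ← one_add_one_eq_two]
  noncomm_ring

theorem typeP {x z : G} (hx : x * x * x = 1) (hx1 : x ≠ 1) (hz : z * z * z = 1) (hz1 : z ≠ 1)
    (hne : x ≠ z) (hxz : x * z ≠ 1) : Frame.TypeP (D.a x * D.a z + D.a z * D.a x) := by
  rw [D.P_eq hx hx1 hz hz1]
  rcases D.o33 x z hx hx1 hz hz1 hne hxz with h | h | h
  · right; left
    rw [D.t4 h]; simp
  · left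
    rw [D.t6 h, ← one_add_one_eq_two]; abel
  · right; right
    have h1 := D.t10 h
    set T := D.t (x * z)
    have e4 : (4 : A) = 2 * 2 := by norm_num
    have h2 : (T + T + T + T - 2) * (T + T + T + T - 2) = 16 * (T * T - T) + 4 := by rw [e4]; noncomm_ring
    rw [h2, h1]; norm_num

theorem U_eq {i z : G} (hi : i * i * i * i = 1) (hi1 : i * i ≠ 1) (hz : z * z * z = 1) (hz1 : z ≠ 1) :
    D.R i * D.a z + D.a z * D.R i = D.t (i * z) + D.t (i * z) := by
  rw [a, t, _root_.mul_inv_rev, map_mul, map_mul, D.inv4 hi hi1, D.inv3 hz hz1]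
  noncomm_ring

theorem typeU {i z : G} (hi : i * i * i * i = 1) (hi1 : i * i ≠ 1) (hz : z * z * z = 1) (hz1 : z ≠ 1) :
    Frame.TypeU (D.R i * D.a z + D.a z * D.R i) := by
  by_cases hne : i * z = z * i
  · right; right; right; right; left
    have h1 : D.R i * D.a z = D.a z * D.R i := by
      rw [a, mul_add, mul_add, add_mul, add_mul, mul_one, one_mul, ← map_mul, ← map_mul, hne]
    have h2 := D.a_sq hz hz1
    have h3 := D.sq4 hi hi1
    have h5 : (D.R i * D.a z) * (D.R i * D.a z) = 3 := by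
      calc (D.R i * D.a z) * (D.R i * D.a z) = (D.R i * D.a z) * (D.a z * D.R i) := by rw [h1]
        _ = D.R i * (D.a z * D.a z) * D.R i := by simp only [mul_assoc]
        _ = -3 * (D.R i * D.R i) := by rw [h2]; noncomm_ring
        _ = 3 := by rw [h3]; noncomm_ring
    have h6 : (D.R i * D.a z + D.a z * D.R i) * (D.R i * D.a z + D.a z * D.R i) =
        4 * ((D.R i * D.a z) * (D.R i * D.a z)) := by
      rw [← h1]; noncomm_ring
    rw [h6, h5]; norm_num
  · rw [D.U_eq hi hi1 hz hz1]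
    set T := D.t (i * z) with hT
    rcases D.o43 i z hi hi1 hz hz1 hne with h | h | h | h | h | h
    · right; right; left
      rw [hT, D.t3' h, ← one_add_one_eq_two]; abel
    · left
      rw [hT, D.t4 h, add_zero]
    · right; right; right; right; right; left
      have h1 := D.t5 h
      rw [← hT] at h1
      have h2 : (T + T) * (T + T) + (T + T + (T + T)) = 4 * (T * T + T) := by noncomm_ring
      rw [h2, h1, mul_one]
    · right; left
      rw [hT, D.t6 h, one_add_one_eq_two]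
    · right; right; right; left
      have h1 := D.t8 h
      rw [← hT] at h1
      have h2 : (T + T) * (T + T) = 4 * (T * T) := by noncomm_ring
      rw [h2, h1]; norm_num
    · right; right; right; right; right; right
      have h1 := D.t10 h
      rw [← hT] at h1
      have h2 : (T + T) * (T + T) - (T + T + (T + T)) = 4 * (T * T - T) := by noncomm_ring
      rw [h2, h1, mul_one]

end FPData

end Cfsg.Agent.FC
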