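import Cfsg.Agent.FC.Conf2
import Cfsg.Agent.S3378

/-!
The binary icosahedral group; the group generated by the elements of order three.
-/

set_option autoImplicit false
set_option linter.unusedSectionVars false
set_option linter.unusedSimpArgs false

namespace Cfsg.Agent.FC

universe u v

/-- subgroup generated by the elements of order three -/
def K3 (G : Type u) [Group G] : Subgroup G := Subgroup.closure {g : G | g * g * g = 1}

namespace FPData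

variable {G : Type u} [Group G] {A : Type v} [Ring A] (D : FPData G A)

theorem pow5_of_t [Nontrivial A] {g : G} (h : D.t g * D.t g + D.t g = 1) : g ^ 5 = 1 := by
  apply D.inj
  rw [map_one, map_pow]
  have h1 := D.mul_inv g
  have h2 := D.inv_mul g
  rw [FPData.t] at h
  set W := D.R g
  set V := D.R g⁻¹
  have h3 : W ^ 4 + W ^ 3 + W ^ 2 + W + 1 = W * W * ((W + V) * (W + V) + (W + V) - 1) := by
    have e1 : W * W * ((W + V) * (W + V) + (W + V) - 1) = W ^ 4 + W * W * (W * V) + W * W * (V * W) + W * (W * V) * V +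
        W ^ 3 + W * (W * V) - W ^ 2 := by noncomm_ring
    rw [e1, h1, h2]
    simp only [mul_one, h1]
    noncomm_ring
  have h4 : W ^ 5 - 1 = (W - 1) * (W ^ 4 + W ^ 3 + W ^ 2 + W + 1) := by noncomm_ring
  rw [h3, h, sub_self, mul_zero, mul_zero] at h4
  exact sub_eq_zero.mp h4

end FPData

namespace GFrame

open Frame

variable {G : Type u} [Group G] {A : Type v} [Ring A] {D : FPData G A} (Φ : GFrame D)

attribute [local simp] II JJ KK IJ JK KI JI KJ IK II' JJ' KK' IJ' JK' KI' JI' KJ' IK' mul_assoc mul_add add_mul mul_sub sub_mul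

variable [Algebra ℚ A] [Nontrivial A]

theorem word_eq {y : G} {s : A} (hV : Φ.IsV y s) : Φ.x = y⁻¹ * Φ.j * y⁻¹ * Φ.j * y * Φ.j := by
  obtain ⟨hy, hy1, hs, hss, hc⟩ := hV
  apply D.inj
  rw [map_mul, map_mul, map_mul, map_mul, map_mul, Φ.hJ, D.inv3 hy hy1]
  apply sub_eq_zero.mp
  apply five_ne (n := 64) (by norm_num)
  have hX := Φ.two_X
  set Y := D.R y
  set X := D.R Φ.x
  have h4Y : Y + Y + (Y + Y) = Φ.F.J * (1 + s) + Φ.F.K * (1 - s) - (1 + 1) := by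
    rw [← hc, FPData.a]; abel
  have hss1 : s * s = 1 + 1 + 1 + 1 + 1 := by rw [hss]; norm_num
  have hss' : ∀ w, s * (s * w) = w + w + w + w + w := fun w => by
    rw [← mul_assoc, hss1]; simp only [add_mul, one_mul]
  have h1 : ((64 : ℕ) : A) * (X - (-1 - Y) * Φ.F.J * (-1 - Y) * Φ.F.J * Y * Φ.F.J) =
      (32 : ℕ) • (X + X) - (-(1 + 1 + (1 + 1)) - (Y + Y + (Y + Y))) * Φ.F.J * (-(1 + 1 + (1 + 1)) - (Y + Y + (Y + Y))) * Φ.F.J *
        (Y + Y + (Y + Y)) * Φ.F.J := by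
    rw [← nsmul_eq_mul]
    noncomm_ring
  rw [h1, hX, h4Y, Frame.s]
  simp only [II, JJ, KK, IJ, JK, KI, JI, KJ, IK, II', JJ', KK', IJ', JK', KI', JI', KJ', IK', mul_assoc, mul_add, add_mul,
    mul_sub, sub_mul, hs.I, hs.J, hs.K, hs.I', hs.J', hs.K', hss1, hss', mul_one, one_mul, mul_neg, neg_mul, neg_neg]
  abel

theorem t_jy {y : G} {s : A} (hV : Φ.IsV y s) : D.t (Φ.j * y) + D.t (Φ.j * y) = -(1 + s) := by
  obtain ⟨hy, hy1, hs, hss, hc⟩ := hV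
  rw [← D.U_eq Φ.j4 Φ.j2 hy hy1, Φ.hJ]
  apply sub_eq_zero.mp
  apply two_ne
  calc Φ.F.J * D.a y + D.a y * Φ.F.J - -(1 + s) + (Φ.F.J * D.a y + D.a y * Φ.F.J - -(1 + s)) =
        Φ.F.J * (D.a y + D.a y) + (D.a y + D.a y) * Φ.F.J + (1 + s) + (1 + s) := by simp; abel
    _ = 0 := by
      rw [hc]
      simp [hs.I, hs.J, hs.K, hs.I', hs.J', hs.K']
      abel

theorem pow5 {y : G} {s : A} (hV : Φ.IsV y s) : (Φ.j * y) ^ 5 = 1 := by
  apply D.pow5_of_t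
  have h := Φ.t_jy hV
  obtain ⟨hy, hy1, hs, hss, hc⟩ := hV
  set t := D.t (Φ.j * y)
  apply sub_eq_zero.mp
  apply four_ne
  calc t * t + t - 1 + (t * t + t - 1) + (t * t + t - 1) + (t * t + t - 1) = (t + t) * (t + t) + (t + t) + (t + t) - 4 := by
        have e4 : (4 : A) = 1 + 1 + (1 + 1) := by norm_num
        rw [e4]; simp; abel
    _ = 0 := by
        rw [h]
        have e4 : (4 : A) = 5 - 1 := by norm_num
        rw [e4, ← hss]
        simp; abel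

theorem j_ne_inv {y : G} (hy : y * y * y = 1) : Φ.j * y ≠ 1 := by
  intro h
  have h1 : Φ.j = y⁻¹ := eq_inv_of_mul_eq_one_left h
  have h2 := Φ.j2
  apply h2
  have h3 := Φ.j4
  have h4 : Φ.j * Φ.j * Φ.j = 1 := by
    rw [h1, ← _root_.mul_inv_rev, ← _root_.mul_inv_rev, ← mul_assoc, hy, inv_one]
  rw [h4, one_mul] at h3
  rw [h3, one_mul]

theorem central {g : G} : Φ.j * Φ.j * g = g * (Φ.j * Φ.j) := by
  apply D.inj
  rw [map_mul, map_mul, map_mul, map_mul, Φ.RJ]; simp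

/-- the quaternion group of the frame -/
theorem quat_data : Φ.i ^ (2 * 2) = 1 ∧ Φ.i ^ 2 ≠ 1 ∧ Φ.j * Φ.j = Φ.i ^ 2 ∧ Φ.j * Φ.i * Φ.j⁻¹ = Φ.i⁻¹ := by
  refine ⟨?_, ?_, ?_, ?_⟩
  · rw [← Φ.i4]; simp only [pow_succ, pow_zero, one_mul]
  · rw [pow_two]; exact Φ.i2
  · rw [pow_two, Φ.ii_jj]
  · apply D.inj
    rw [map_mul, map_mul, Φ.R_jinv, Φ.R_iinv, Φ.hI, Φ.hJ]
    simp

theorem card_quat : Nat.card (Subgroup.closure {Φ.i, Φ.j}) = 8 := by
  obtain ⟨h1, h2, h3, h4⟩ := Φ.quat_data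
  obtain ⟨e⟩ := H62.closure_equiv_quat h1 h2 h3 h4
  rw [Nat.card_congr e.toEquiv, Nat.card_eq_fintype_card, QuaternionGroup.card]

theorem S_le_of {y : G} {s : A} (hV : Φ.IsV y s) : Φ.S ≤ Subgroup.closure {y, Φ.j} := by
  have hy : y ∈ Subgroup.closure {y, Φ.j} := Subgroup.subset_closure (by simp)
  have hj : Φ.j ∈ Subgroup.closure {y, Φ.j} := Subgroup.subset_closure (by simp)
  set H := Subgroup.closure {y, Φ.j}
  have hx : Φ.x ∈ H := by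
    rw [Φ.word_eq hV]
    exact H.mul_mem (H.mul_mem (H.mul_mem (H.mul_mem (H.mul_mem (H.inv_mem hy) hj) (H.inv_mem hy)) hj) hy) hj
  have hi : Φ.i ∈ H := by
    have : Φ.i = Φ.x * Φ.j * Φ.x⁻¹ := by rw [← Φ.xi]; simp [mul_assoc]
    rw [this]
    exact H.mul_mem (H.mul_mem hx hj) (H.inv_mem hx)
  rw [S, Subgroup.closure_le]
  rintro g (rfl | rfl)
  · exact hi
  · exact hx

theorem iso_of_V {y : G} {s : A} (hV : Φ.IsV y s) :
    Nat.card (Subgroup.closure {y, Φ.j}) = 120 ∧ Nonempty ((Subgroup.closure {y, Φ.j}) ≃* S3378.SL5) := by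
  have hy : y ∈ Subgroup.closure {y, Φ.j} := Subgroup.subset_closure (by simp)
  have hj : Φ.j ∈ Subgroup.closure {y, Φ.j} := Subgroup.subset_closure (by simp)
  have hS := Φ.S_le_of hV
  have hp5 := Φ.pow5 hV
  obtain ⟨hy3, hy1, hs, hss, hc⟩ := hV
  set H := Subgroup.closure {y, Φ.j} with hH
  have e1 : (⟨y, hy⟩⁻¹ : H) ^ 3 = 1 := by
    apply Subtype.ext
    show y⁻¹ ^ 3 = 1
    rw [inv_pow, inv_eq_one, ← hy3]; simp only [pow_succ, pow_zero, one_mul]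
  have e2 : ((⟨Φ.j, hj⟩ : H) * ⟨y, hy⟩) ^ 5 = 1 := by
    apply Subtype.ext
    exact hp5
  have e3 : ((⟨Φ.j, hj⟩ : H) * ⟨Φ.j, hj⟩) ^ 2 = 1 := by
    apply Subtype.ext
    show (Φ.j * Φ.j) ^ 2 = 1
    rw [← Φ.j4]; simp only [pow_succ, pow_zero, one_mul, mul_assoc]
  have e4 : ((⟨y, hy⟩⁻¹ : H) * ((⟨Φ.j, hj⟩ : H) * ⟨y, hy⟩)) ^ 2 = (⟨Φ.j, hj⟩ : H) * ⟨Φ.j, hj⟩ := by
    apply Subtype.ext
    show (y⁻¹ * (Φ.j * y)) ^ 2 = Φ.j * Φ.j
    calc (y⁻¹ * (Φ.j * y)) ^ 2 = y⁻¹ * (Φ.j * Φ.j * y) := by rw [pow_two]; simp [mul_assoc]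
      _ = Φ.j * Φ.j := by rw [Φ.central, inv_mul_cancel_left]
  have e5 : ((⟨Φ.j, hj⟩ : H) * ⟨Φ.j, hj⟩) * (⟨y, hy⟩⁻¹ : H) = (⟨y, hy⟩⁻¹ : H) * ((⟨Φ.j, hj⟩ : H) * ⟨Φ.j, hj⟩) := by
    apply Subtype.ext
    exact Φ.central
  have e6 : ((⟨Φ.j, hj⟩ : H) * ⟨Φ.j, hj⟩) * ((⟨Φ.j, hj⟩ : H) * ⟨y, hy⟩) = ((⟨Φ.j, hj⟩ : H) * ⟨y, hy⟩) * ((⟨Φ.j, hj⟩ : H) * ⟨Φ.j, hj⟩) := by
    apply Subtype.ext
    exact Φ.central
  have e7 : Subgroup.closure {(⟨y, hy⟩⁻¹ : H), (⟨Φ.j, hj⟩ : H) * ⟨y, hy⟩, (⟨Φ.j, hj⟩ : H) * ⟨Φ.j, hj⟩} = ⊤ := by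
    set M := Subgroup.closure {(⟨y, hy⟩⁻¹ : H), (⟨Φ.j, hj⟩ : H) * ⟨y, hy⟩, (⟨Φ.j, hj⟩ : H) * ⟨Φ.j, hj⟩} with hM
    have m1 : (⟨y, hy⟩ : H) ∈ M := by
      rw [← inv_inv (⟨y, hy⟩ : H)]
      exact M.inv_mem (Subgroup.subset_closure (by simp))
    have m2 : (⟨Φ.j, hj⟩ : H) ∈ M := by
      have h1 : (⟨Φ.j, hj⟩ : H) * ⟨y, hy⟩ ∈ M := Subgroup.subset_closure (by simp)
      have h2 := M.mul_mem h1 (M.inv_mem m1)
      rwa [mul_inv_cancel_right] at h2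
    have h1 : H ≤ M.map H.subtype := by
      nth_rewrite 1 [hH]
      rw [Subgroup.closure_le]
      rintro g (rfl | rfl)
      · exact ⟨⟨_, hy⟩, m1, rfl⟩
      · exact ⟨⟨_, hj⟩, m2, rfl⟩
    rw [eq_top_iff]
    rintro ⟨g, hg⟩ -
    obtain ⟨⟨g', hg'⟩, hm, heq⟩ := h1 hg
    have : g' = g := heq
    subst this
    exact hm
  obtain ⟨hfin, hle⟩ := H56.Tri235.card_le_central e1 e2 e3 e4 e5 e6 e7
  have d3 : 3 ∣ Nat.card H := by
    have h1 : orderOf (⟨y, hy⟩ : H) = 3 := by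
      haveI : Fact (Nat.Prime 3) := ⟨Nat.prime_three⟩
      apply orderOf_eq_prime
      · apply Subtype.ext
        show y ^ 3 = 1
        rw [← hy3]; simp only [pow_succ, pow_zero, one_mul]
      · intro h
        exact hy1 (congrArg Subtype.val h)
    rw [← h1]; exact orderOf_dvd_natCard _
  have d5 : 5 ∣ Nat.card H := by
    have h1 : orderOf ((⟨Φ.j, hj⟩ : H) * ⟨y, hy⟩) = 5 := by
      haveI : Fact (Nat.Prime 5) := ⟨Nat.prime_five⟩
      apply orderOf_eq_prime e2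
      intro h
      exact Φ.j_ne_inv hy3 (congrArg Subtype.val h)
    rw [← h1]; exact orderOf_dvd_natCard _
  have d8 : 8 ∣ Nat.card H := by
    rw [← Φ.card_quat]
    apply Subgroup.card_dvd_of_le
    rw [Subgroup.closure_le]
    rintro g (rfl | rfl)
    · exact hS Φ.i_mem
    · exact hj
  have hcard : Nat.card H = 120 := by
    have h24 : 24 ∣ Nat.card H := by
      have : Nat.Coprime 3 8 := by norm_num
      exact this.mul_dvd_of_dvd_of_dvd d3 d8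
    have h120 : 120 ∣ Nat.card H := by
      have : Nat.Coprime 5 24 := by norm_num
      exact this.mul_dvd_of_dvd_of_dvd d5 h24
    exact le_antisymm hle (Nat.le_of_dvd Nat.card_pos h120)
  refine ⟨hcard, ?_⟩
  obtain ⟨f1⟩ := S3378.iso_of_rels hcard _ _ _ e1 e2 e3 e5 e6 e4 e7
  obtain ⟨f2⟩ := S3378.iso_SL5
  exact ⟨f1.symm.trans f2⟩

theorem k_eq : Φ.k = Φ.x⁻¹ * (Φ.i⁻¹ * Φ.x * Φ.i) := by
  apply D.inj
  have h1 : Φ.x⁻¹ * (Φ.i⁻¹ * Φ.x * Φ.i) = (Φ.x⁻¹ * Φ.i * Φ.x)⁻¹ * Φ.i := by simp [mul_assoc]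
  rw [h1, Φ.xi, map_mul, Φ.R_jinv, Φ.hI, Φ.hK]
  simp

theorem S_le_K3 : Φ.S ≤ K3 G := by
  have hx : Φ.x ∈ K3 G := Subgroup.subset_closure Φ.x3
  have hk : Φ.k ∈ K3 G := by
    rw [Φ.k_eq]
    exact (K3 G).mul_mem ((K3 G).inv_mem hx) (Subgroup.subset_closure (conj3 Φ.x3))
  have hi : Φ.i ∈ K3 G := by
    rw [← Φ.xk]
    exact (K3 G).mul_mem ((K3 G).mul_mem ((K3 G).inv_mem hx) hk) hx
  rw [S, Subgroup.closure_le]
  rintro g (rfl | rfl)
  · exact hi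
  · exact hx

theorem K3_iso {z : G} (hz : z * z * z = 1) (hz1 : z ≠ 1) (hzS : z ∉ Φ.S) :
    Nonempty (K3 G ≃* S3378.SL5) := by
  obtain ⟨y, s, hE, hV⟩ := Φ.exists_normal hz hz1 hzS
  have hyS : y ∉ Φ.S := fun h => hzS ((hE Φ.S le_rfl).mp h)
  obtain ⟨hc, e⟩ := Φ.iso_of_V hV
  have hS := Φ.S_le_of hV
  have hy : y ∈ Subgroup.closure {y, Φ.j} := Subgroup.subset_closure (by simp)
  have h1 : K3 G = Subgroup.closure {y, Φ.j} := by
    apply le_antisymm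
    · rw [K3, Subgroup.closure_le]
      intro g hg
      exact Φ.mem_of hS hy hyS hV.1 hV.2.1 hg
    · rw [Subgroup.closure_le]
      rintro g (rfl | rfl)
      · exact Subgroup.subset_closure hV.1
      · exact Φ.S_le_K3 Φ.j_mem
  rw [h1]
  exact e

theorem K3_eq_S (h : ∀ z : G, z * z * z = 1 → z ∈ Φ.S) : K3 G = Φ.S := by
  apply le_antisymm
  · rw [K3, Subgroup.closure_le]
    exact fun g hg => h g hg
  · exact Φ.S_le_K3

end GFrame

variable {G : Type u} [Group G] {A : Type v} [Ring A] [Algebra ℚ A] [Nontrivial A] (D : FPData G A)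

include D in
/-- the four possibilities for the elements of order three -/
theorem four_cases : (∀ z : G, z * z * z = 1 → z = 1) ∨
    (∃ x : G, x * x * x = 1 ∧ x ≠ 1 ∧ ∀ z : G, z * z * z = 1 → z ∈ Subgroup.zpowers x) ∨
    (∃ Φ : GFrame D, ∀ z : G, z * z * z = 1 → z ∈ Φ.S) ∨
    Nonempty (K3 G ≃* S3378.SL5) := by
  by_cases h1 : ∀ z : G, z * z * z = 1 → z = 1
  · exact Or.inl h1
  push Not at h1
  obtain ⟨x, hx, hx1⟩ := h1
  by_cases h2 : ∀ z : G, z * z * z = 1 → z ∈ Subgroup.zpowers x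
  · exact Or.inr (Or.inl ⟨x, hx, hx1, h2⟩)
  push Not at h2
  obtain ⟨z, hz, hzx⟩ := h2
  obtain ⟨Φ, -⟩ := exists_frame (D := D) hx hx1 hz (by rintro rfl; exact hzx (Subgroup.one_mem _))
    (by rintro rfl; exact hzx (Subgroup.mem_zpowers _)) (by
      intro h
      apply hzx
      rw [← inv_eq_of_mul_eq_one_right h]
      exact Subgroup.inv_mem _ (Subgroup.mem_zpowers _))
  by_cases h3 : ∀ z : G, z * z * z = 1 → z ∈ Φ.S
  · exact Or.inr (Or.inr (Or.inl ⟨Φ, h3⟩))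
  push Not at h3
  obtain ⟨w, hw, hwS⟩ := h3
  exact Or.inr (Or.inr (Or.inr (Φ.K3_iso hw (by rintro rfl; exact hwS (Subgroup.one_mem _)) hwS)))

end Cfsg.Agent.FC
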