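import Mathlib

/-!
Fixed-point-free representations: from characteristic `p` to the rational numbers.
-/

set_option autoImplicit false
set_option linter.unusedSectionVars false

namespace Cfsg.Agent.FC

open MonoidAlgebra

universe u v

variable {G : Type u} [Group G]

/-- the norm element of the cyclic group generated by `g` -/
noncomputable def nE (k : Type*) [CommRing k] (g : G) : MonoidAlgebra k G :=
  ∑ i ∈ Finset.range (orderOf g), MonoidAlgebra.of k G g ^ i

theorem of_mul_nE (k : Type*) [CommRing k] (g : G) : MonoidAlgebra.of k G g * nE k g = nE k g := by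
  have h1 := mul_geom_sum (MonoidAlgebra.of k G g) (orderOf g)
  rw [← map_pow, pow_orderOf_eq_one, map_one, sub_self, sub_mul, one_mul] at h1
  exact sub_eq_zero.mp h1

theorem of_pow_mul_nE (k : Type*) [CommRing k] (g : G) (i : ℕ) : MonoidAlgebra.of k G g ^ i * nE k g = nE k g := by
  induction i with
  | zero => rw [pow_zero, one_mul]
  | succ i ih => rw [pow_succ, mul_assoc, of_mul_nE, ih]

theorem nE_mul_nE (k : Type*) [CommRing k] (g : G) : nE k g * nE k g = (orderOf g) • nE k g := by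
  have h1 : nE k g * nE k g = ∑ i ∈ Finset.range (orderOf g), MonoidAlgebra.of k G g ^ i * nE k g := by
    rw [← Finset.sum_mul]; rfl
  rw [h1, Finset.sum_congr rfl (fun i _ => of_pow_mul_nE k g i), Finset.sum_const, Finset.card_range]

theorem map_nE {k l : Type*} [CommRing k] [CommRing l] (f : k →+* l) (g : G) :
    MonoidAlgebra.mapRingHom G f (nE k g) = nE l g := by
  rw [nE, nE, map_sum]
  apply Finset.sum_congr rfl
  intro i _
  rw [map_pow, of_apply, of_apply, mapRingHom_single, map_one]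

section rep

variable {k : Type*} [Field k] {V : Type*} [AddCommGroup V] [Module k V] (ρ : Representation k G V)

theorem asAlg_nE (hf : ∀ g : G, g ≠ 1 → ∀ v : V, ρ g v = v → v = 0) {g : G} (hg : g ≠ 1) :
    ρ.asAlgebraHom (nE k g) = 0 := by
  ext v
  apply hf g hg
  have h1 : ρ g * ρ.asAlgebraHom (nE k g) = ρ.asAlgebraHom (nE k g) := by
    rw [← Representation.asAlgebraHom_of, ← map_mul, of_mul_nE]
  exact LinearMap.congr_fun h1 v

/-- Over a field whose characteristic does not divide the order, a fixed-point-free representation produces an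
idempotent of the group algebra. -/
theorem exists_idem [Finite G] [NeZero (Nat.card G : k)] [Nontrivial V]
    (hf : ∀ g : G, g ≠ 1 → ∀ v : V, ρ g v = v → v = 0) :
    ∃ e : MonoidAlgebra k G, e * e = e ∧ e ≠ 0 ∧ ∀ g : G, g ≠ 1 → ∀ r : MonoidAlgebra k G, nE k g * r * e = 0 := by
  obtain ⟨v, hv⟩ := exists_ne (0 : V)
  let L : Submodule (MonoidAlgebra k G) (MonoidAlgebra k G) :=
    { carrier := {r | ρ.asAlgebraHom r v = 0}
      zero_mem' := by
        show ρ.asAlgebraHom 0 v = 0
        rw [map_zero]; rfl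
      add_mem' := by
        intro a b ha hb
        show ρ.asAlgebraHom (a + b) v = 0
        rw [map_add, LinearMap.add_apply]
        have ha' : ρ.asAlgebraHom a v = 0 := ha
        have hb' : ρ.asAlgebraHom b v = 0 := hb
        rw [ha', hb', add_zero]
      smul_mem' := by
        intro c a ha
        show ρ.asAlgebraHom (c * a) v = 0
        have ha' : ρ.asAlgebraHom a v = 0 := ha
        rw [map_mul, Module.End.mul_apply, ha', map_zero] }
  obtain ⟨L', hL'⟩ := exists_isCompl L
  have hone : (1 : MonoidAlgebra k G) ∈ L ⊔ L' := by rw [hL'.sup_eq_top]; exact Submodule.mem_top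
  obtain ⟨l, hl, e, he, hle⟩ := Submodule.mem_sup.mp hone
  have hl' : ρ.asAlgebraHom l v = 0 := hl
  have hdisj : ∀ r, r ∈ L → r ∈ L' → r = 0 := fun r h1 h2 => Submodule.disjoint_def.mp hL'.disjoint r h1 h2
  have hev : ρ.asAlgebraHom e v = v := by
    have h1 := congrArg (fun r => ρ.asAlgebraHom r v) hle
    simp only [map_add, LinearMap.add_apply, map_one, Module.End.one_apply, hl', zero_add] at h1
    exact h1
  have hel : e * l = 0 := by
    apply hdisj
    · exact L.smul_mem e hl
    · have h1 : e * l = e - e * e := by rw [eq_sub_iff_add_eq, ← mul_add, hle, mul_one]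
      rw [h1]
      exact L'.sub_mem he (L'.smul_mem e he)
  refine ⟨e, ?_, ?_, ?_⟩
  · have h1 : e * (l + e) = e := by rw [hle, mul_one]
    rw [mul_add, hel, zero_add] at h1
    exact h1
  · intro h0
    rw [h0, map_zero] at hev
    exact hv hev.symm
  · intro g hg r
    apply hdisj
    · show ρ.asAlgebraHom (nE k g * r * e) v = 0
      rw [map_mul, map_mul, asAlg_nE ρ hf hg, zero_mul, Module.End.mul_apply, LinearMap.zero_apply]
    · exact L'.smul_mem (nE k g * r) he

end rep

section lift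

variable {p : ℕ} [Fact p.Prime]

/-- reduction `(ℤ/p^k)[G] → (ℤ/p)[G]` -/
noncomputable def redu (G : Type u) [Group G] (p k : ℕ) (hk : k ≠ 0) :
    MonoidAlgebra (ZMod (p ^ k)) G →+* MonoidAlgebra (ZMod p) G :=
  MonoidAlgebra.mapRingHom G (ZMod.castHom (dvd_pow_self p hk) (ZMod p))

theorem exists_eq_p_smul {k : ℕ} (hk : k ≠ 0) [Finite G] (x : MonoidAlgebra (ZMod (p ^ k)) G) (hx : redu G p k hk x = 0) :
    ∃ y : MonoidAlgebra (ZMod (p ^ k)) G, x = p • y := by
  classical
  have : Fintype G := Fintype.ofFinite G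
  have hpk : NeZero (p ^ k) := ⟨pow_ne_zero _ (Fact.out : p.Prime).ne_zero⟩
  have h1 : ∀ g : G, ∃ c : ZMod (p ^ k), x.coeff g = p • c := by
    intro g
    have h2 : ZMod.castHom (dvd_pow_self p hk) (ZMod p) (x.coeff g) = 0 := by
      have h3 := congrArg (fun r : MonoidAlgebra (ZMod p) G => r.coeff g) hx
      simp only [redu, coeff_mapRingHom] at h3
      exact h3
    rw [ZMod.castHom_apply, ZMod.cast_eq_val, ZMod.natCast_eq_zero_iff] at h2
    obtain ⟨c, hc⟩ := h2
    refine ⟨(c : ZMod (p ^ k)), ?_⟩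
    rw [nsmul_eq_mul, ← Nat.cast_mul, ← hc, ZMod.natCast_zmod_val]
  choose c hc using h1
  refine ⟨∑ g : G, MonoidAlgebra.single g (c g), ?_⟩
  have h4 : x = ∑ g : G, MonoidAlgebra.single g (x.coeff g) := by
    apply MonoidAlgebra.ext
    apply Finsupp.ext
    intro g
    rw [MonoidAlgebra.coeff_sum, Finsupp.finsetSum_apply]
    simp [MonoidAlgebra.coeff_single, Finsupp.single_apply]
  rw [h4, Finset.smul_sum]
  apply Finset.sum_congr rfl
  intro g _
  rw [MonoidAlgebra.smul_single, ← hc]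

/-- the lifted idempotent -/
theorem exists_lift [Finite G] {e : MonoidAlgebra (ZMod p) G} (he : e * e = e) (he0 : e ≠ 0)
    (hE : ∀ g : G, g ≠ 1 → ∀ r : MonoidAlgebra (ZMod p) G, nE (ZMod p) g * r * e = 0)
    (hpG : ¬ p ∣ Nat.card G) (k : ℕ) (hk : k ≠ 0) :
    ∃ f : MonoidAlgebra (ZMod (p ^ k)) G, redu G p k hk f = e ∧
      ∀ g : G, g ≠ 1 → ∀ r : MonoidAlgebra (ZMod (p ^ k)) G, nE (ZMod (p ^ k)) g * r * f = 0 := by
  classical
  have : Fintype G := Fintype.ofFinite G
  have hp : p.Prime := Fact.out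
  have hpk : NeZero (p ^ k) := ⟨pow_ne_zero _ hp.ne_zero⟩
  have hpk0 : ∀ x : MonoidAlgebra (ZMod (p ^ k)) G, (p ^ k) • x = 0 := by
    intro x
    have h1 : ((p ^ k : ℕ) : ZMod (p ^ k)) = 0 := ZMod.natCast_self _
    rw [← Nat.cast_smul_eq_nsmul (ZMod (p ^ k)), h1, zero_smul]
  have hnil : ∀ x ∈ RingHom.ker (redu G p k hk), IsNilpotent x := by
    intro x hx
    obtain ⟨y, hy⟩ := exists_eq_p_smul hk x hx
    refine ⟨k, ?_⟩
    rw [hy, smul_pow]
    exact hpk0 _
  have hsurj : e ∈ (redu G p k hk).range := by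
    have hs : Function.Surjective (ZMod.castHom (dvd_pow_self p hk) (ZMod p)) := ZMod.castHom_surjective _
    choose s hs using hs
    refine ⟨∑ g : G, MonoidAlgebra.single g (s (e.coeff g)), ?_⟩
    rw [map_sum]
    have h4 : e = ∑ g : G, MonoidAlgebra.single g (e.coeff g) := by
      apply MonoidAlgebra.ext
      apply Finsupp.ext
      intro g
      rw [MonoidAlgebra.coeff_sum, Finsupp.finsetSum_apply]
      simp [MonoidAlgebra.coeff_single, Finsupp.single_apply]
    conv_rhs => rw [h4]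
    apply Finset.sum_congr rfl
    intro g _
    rw [redu, mapRingHom_single, hs]
  obtain ⟨f, hff, hfe⟩ := exists_isIdempotentElem_eq_of_ker_isNilpotent (redu G p k hk) hnil e hsurj he
  refine ⟨f, hfe, ?_⟩
  intro g hg
  -- divisibility by all powers of p
  have hcop : Nat.Coprime (orderOf g) (p ^ k) := by
    apply Nat.Coprime.pow_right
    rw [Nat.coprime_comm]
    refine (Nat.Prime.coprime_iff_not_dvd hp).mpr fun h => hpG (h.trans (orderOf_dvd_natCard g))
  have key : ∀ j : ℕ, ∀ r : MonoidAlgebra (ZMod (p ^ k)) G, ∃ y : MonoidAlgebra (ZMod (p ^ k)) G,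
      nE (ZMod (p ^ k)) g * r * f = (p ^ j) • y := by
    intro j
    induction j with
    | zero => intro r; exact ⟨_, by rw [pow_zero, one_smul]⟩
    | succ j ih =>
      intro r
      have h1 : redu G p k hk (nE (ZMod (p ^ k)) g * r * f) = 0 := by
        rw [map_mul, map_mul, hfe]
        have : redu G p k hk (nE (ZMod (p ^ k)) g) = nE (ZMod p) g := map_nE _ g
        rw [this]
        exact hE g hg _
      obtain ⟨y, hy⟩ := exists_eq_p_smul hk _ h1
      obtain ⟨w, hw⟩ := ih y
      have h2 : (orderOf g) • (nE (ZMod (p ^ k)) g * r * f) = (p ^ (j + 1)) • w := by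
        calc (orderOf g) • (nE (ZMod (p ^ k)) g * r * f) = nE (ZMod (p ^ k)) g * (nE (ZMod (p ^ k)) g * r * f) * f := by
              have h3 : nE (ZMod (p ^ k)) g * (nE (ZMod (p ^ k)) g * r * f) * f =
                  (nE (ZMod (p ^ k)) g * nE (ZMod (p ^ k)) g) * r * (f * f) := by simp only [mul_assoc]
              rw [h3, nE_mul_nE, hff.eq, smul_mul_assoc, smul_mul_assoc]
          _ = p • (nE (ZMod (p ^ k)) g * y * f) := by rw [hy, mul_smul_comm, smul_mul_assoc]
          _ = (p ^ (j + 1)) • w := by rw [hw, smul_smul, pow_succ']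
      -- divide by the order
      obtain ⟨m, -, hm⟩ := Nat.exists_mul_mod_eq_one_of_coprime hcop (Nat.one_lt_pow hk hp.one_lt)
      refine ⟨m • w, ?_⟩
      have h4 : m • ((orderOf g) • (nE (ZMod (p ^ k)) g * r * f)) = nE (ZMod (p ^ k)) g * r * f := by
        rw [smul_smul, mul_comm, ← Nat.div_add_mod (orderOf g * m) (p ^ k), hm, add_smul, one_smul, mul_smul, hpk0, zero_add]
      rw [← h4, h2, smul_smul, smul_smul, mul_comm]
  intro r
  obtain ⟨y, hy⟩ := key k r
  rw [hy, hpk0]

/-- multiples of one are not in the integral span of the norm elements -/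
theorem natCast_not_mem [Finite G] {e : MonoidAlgebra (ZMod p) G} (he : e * e = e) (he0 : e ≠ 0)
    (hE : ∀ g : G, g ≠ 1 → ∀ r : MonoidAlgebra (ZMod p) G, nE (ZMod p) g * r * e = 0)
    (hpG : ¬ p ∣ Nat.card G) (D : ℕ) (hD : D ≠ 0) :
    (D : MonoidAlgebra ℤ G) ∉ AddSubgroup.closure {r : MonoidAlgebra ℤ G | ∃ g h x : G, g ≠ 1 ∧
      r = MonoidAlgebra.of ℤ G h * nE ℤ g * MonoidAlgebra.of ℤ G x} := by
  classical
  intro hmem
  have : Fintype G := Fintype.ofFinite G
  have hp : p.Prime := Fact.out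
  obtain ⟨f, hfe, hf⟩ := exists_lift he he0 hE hpG D hD
  have hpk : NeZero (p ^ D) := ⟨pow_ne_zero _ hp.ne_zero⟩
  let π : MonoidAlgebra ℤ G →+* MonoidAlgebra (ZMod (p ^ D)) G := MonoidAlgebra.mapRingHom G (Int.castRingHom (ZMod (p ^ D)))
  have h1 : ∀ r ∈ AddSubgroup.closure {r : MonoidAlgebra ℤ G | ∃ g h x : G, g ≠ 1 ∧
      r = MonoidAlgebra.of ℤ G h * nE ℤ g * MonoidAlgebra.of ℤ G x}, π r * f = 0 := by
    intro r hr
    induction hr using AddSubgroup.closure_induction with
    | mem r hr =>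
      obtain ⟨g, h, x, hg, rfl⟩ := hr
      have h2 : π (nE ℤ g) = nE (ZMod (p ^ D)) g := map_nE _ g
      rw [map_mul, map_mul, h2, mul_assoc, mul_assoc, ← mul_assoc (nE _ g), hf g hg, mul_zero]
    | zero => rw [map_zero, zero_mul]
    | add a b _ _ ha hb => rw [map_add, add_mul, ha, hb, add_zero]
    | neg a _ ha => rw [map_neg, neg_mul, ha, neg_zero]
  have h2 := h1 _ hmem
  rw [map_natCast, ← nsmul_eq_mul] at h2
  apply he0
  rw [← hfe]
  apply MonoidAlgebra.ext
  apply Finsupp.ext
  intro g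
  have h3 := congrArg (fun r : MonoidAlgebra (ZMod (p ^ D)) G => r.coeff g) h2
  simp only [MonoidAlgebra.coeff_smul, Finsupp.smul_apply] at h3
  have h4 : (p ^ D) ∣ D * (f.coeff g).val := by
    rw [← ZMod.natCast_eq_zero_iff, Nat.cast_mul, ZMod.natCast_zmod_val, ← nsmul_eq_mul]
    exact h3
  have h5 : p ∣ (f.coeff g).val := by
    by_contra hnd
    have h6 : (p ^ D) ∣ D := (Nat.Coprime.pow_left D ((Nat.Prime.coprime_iff_not_dvd hp).mpr hnd)).dvd_of_dvd_mul_right h4
    have h7 := Nat.le_of_dvd (Nat.pos_of_ne_zero hD) h6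
    exact absurd h7 (not_le.mpr (Nat.lt_pow_self hp.one_lt))
  rw [redu, coeff_mapRingHom, ZMod.castHom_apply, ZMod.cast_eq_val, (ZMod.natCast_eq_zero_iff _ _).mpr h5]
  rfl

end lift

end Cfsg.Agent.FC
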