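import Cfsg.Agent.FC.Rat

/-!
Fixed-point-free rational representations: positivity and Galois conjugates.
-/

set_option autoImplicit false
set_option linter.unusedSectionVars false

namespace Cfsg.Agent.FC

open Matrix Polynomial

universe u v

variable {G : Type u} [Group G]

section spec

variable {n : ℕ} {R : G →* Matrix (Fin n) (Fin n) ℚ}

theorem isUnit_sub_one (hR : ∀ g : G, g ≠ 1 → ∀ v : Fin n → ℚ, R g *ᵥ v = v → v = 0) {g : G} (hg : g ≠ 1) :
    IsUnit (R g - 1) := by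
  rw [Matrix.isUnit_iff_isUnit_det, isUnit_iff_ne_zero]
  intro h0
  obtain ⟨v, hv, hv'⟩ := Matrix.exists_mulVec_eq_zero_iff.mpr h0
  apply hv
  apply hR g hg
  rw [Matrix.sub_mulVec, Matrix.one_mulVec, sub_eq_zero] at hv'
  exact hv'

theorem aeval_cyclotomic (hR : ∀ g : G, g ≠ 1 → ∀ v : Fin n → ℚ, R g *ᵥ v = v → v = 0) (g : G) (hg : 0 < orderOf g) :
    Polynomial.aeval (R g) (Polynomial.cyclotomic (orderOf g) ℚ) = 0 := by
  classical
  have h1 : Polynomial.aeval (R g) (∏ i ∈ (orderOf g).divisors, Polynomial.cyclotomic i ℚ) = 0 := by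
    rw [Polynomial.prod_cyclotomic_eq_X_pow_sub_one hg, map_sub, map_pow, Polynomial.aeval_X, map_one, ← map_pow,
      pow_orderOf_eq_one, map_one, sub_self]
  rw [← Nat.cons_self_properDivisors hg.ne', Finset.prod_cons, map_mul] at h1
  have h2 : IsUnit (Polynomial.aeval (R g) (∏ i ∈ (orderOf g).properDivisors, Polynomial.cyclotomic i ℚ)) := by
    apply Finset.prod_induction (fun i => Polynomial.cyclotomic i ℚ) (fun q => IsUnit (Polynomial.aeval (R g) q))
    · intro a b ha hb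
      rw [map_mul]; exact ha.mul hb
    · rw [map_one]; exact isUnit_one
    · intro d hd
      obtain ⟨hdd, hdl⟩ := Nat.mem_properDivisors.mp hd
      have hd0 : 0 < d := Nat.pos_of_dvd_of_pos hdd hg
      have h3 : IsUnit (R (g ^ d) - 1) := isUnit_sub_one hR (by
        intro h
        exact absurd (Nat.le_of_dvd hd0 (orderOf_dvd_of_pow_eq_one h)) (not_le.mpr hdl))
      obtain ⟨q, hq⟩ := Polynomial.cyclotomic.dvd_X_pow_sub_one d ℚ
      have h4 : Polynomial.aeval (R g) (Polynomial.cyclotomic d ℚ) * Polynomial.aeval (R g) q = R (g ^ d) - 1 := by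
        rw [← map_mul, ← hq, map_sub, map_pow, Polynomial.aeval_X, map_one, map_pow]
      have h5 : Commute (Polynomial.aeval (R g) (Polynomial.cyclotomic d ℚ)) (Polynomial.aeval (R g) q) := by
        show _ * _ = _ * _
        rw [← map_mul, ← map_mul, mul_comm]
      exact (h5.isUnit_mul_iff.mp (by rw [h4]; exact h3)).1
  exact (h2.mul_left_eq_zero).mp h1

theorem exists_eigen_complex (hn : 0 < n) (hR : ∀ g : G, g ≠ 1 → ∀ v : Fin n → ℚ, R g *ᵥ v = v → v = 0) (g : G)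
    (hg : 0 < orderOf g) (ζ : ℂ) (hζ : IsPrimitiveRoot ζ (orderOf g)) :
    ∃ v : Fin n → ℂ, v ≠ 0 ∧ ((R g).map (algebraMap ℚ ℂ)) *ᵥ v = ζ • v := by
  classical
  have hne : Nonempty (Fin n) := ⟨⟨0, hn⟩⟩
  have h1 : minpoly ℚ (R g) ∣ Polynomial.cyclotomic (orderOf g) ℚ := minpoly.dvd _ _ (aeval_cyclotomic hR g hg)
  have hint : IsIntegral ℚ (R g) := Matrix.isIntegral (R g)
  have h2 : Associated (minpoly ℚ (R g)) (Polynomial.cyclotomic (orderOf g) ℚ) := by
    exact ((Polynomial.cyclotomic.irreducible_rat hg).dvd_iff.mp h1 |>.resolve_left (minpoly.not_isUnit ℚ (R g))).symm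
  have h3 : Polynomial.cyclotomic (orderOf g) ℚ ∣ (R g).charpoly := h2.symm.dvd.trans (Matrix.minpoly_dvd_charpoly _)
  have h4 : Polynomial.eval ζ (((R g).charpoly).map (algebraMap ℚ ℂ)) = 0 := by
    obtain ⟨q, hq⟩ := h3
    rw [hq, Polynomial.map_mul, Polynomial.eval_mul, Polynomial.map_cyclotomic]
    have : Polynomial.eval ζ (Polynomial.cyclotomic (orderOf g) ℂ) = 0 := hζ.isRoot_cyclotomic hg
    rw [this, zero_mul]
  rw [← Matrix.charpoly_map, Matrix.eval_charpoly] at h4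
  obtain ⟨v, hv, hv'⟩ := Matrix.exists_mulVec_eq_zero_iff.mpr h4
  refine ⟨v, hv, ?_⟩
  rw [Matrix.sub_mulVec, sub_eq_zero] at hv'
  rw [← hv']
  ext i
  simp [Matrix.scalar_apply, Matrix.mulVec_diagonal]

theorem exists_eigen_real (hn : 0 < n) (hR : ∀ g : G, g ≠ 1 → ∀ v : Fin n → ℚ, R g *ᵥ v = v → v = 0) (g : G)
    (hg : 0 < orderOf g) (k : ℕ) (hk : Nat.Coprime k (orderOf g)) :
    ∃ v : Fin n → ℝ, v ≠ 0 ∧ ((R g).map (algebraMap ℚ ℝ)) *ᵥ v + ((R g⁻¹).map (algebraMap ℚ ℝ)) *ᵥ v =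
      (2 * Real.cos (2 * Real.pi * (k / orderOf g))) • v := by
  classical
  set m := orderOf g with hm
  let ζ : ℂ := Complex.exp (2 * Real.pi * Complex.I * (k / m))
  have hζ : IsPrimitiveRoot ζ m := Complex.isPrimitiveRoot_exp_of_coprime k m hg.ne' hk
  obtain ⟨v, hv, hv'⟩ := exists_eigen_complex hn hR g hg ζ hζ
  have hζ0 : ζ ≠ 0 := Complex.exp_ne_zero _
  -- the inverse
  have h1 : ((R g⁻¹).map (algebraMap ℚ ℂ)) *ᵥ v = ζ⁻¹ • v := by
    have h2 : ((R g⁻¹).map (algebraMap ℚ ℂ)) * ((R g).map (algebraMap ℚ ℂ)) = 1 := by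
      rw [← Matrix.map_mul, ← map_mul, inv_mul_cancel, map_one, Matrix.map_one _ (map_zero _) (map_one _)]
    have h3 : ((R g⁻¹).map (algebraMap ℚ ℂ)) *ᵥ (((R g).map (algebraMap ℚ ℂ)) *ᵥ v) = v := by
      rw [Matrix.mulVec_mulVec, h2, Matrix.one_mulVec]
    rw [hv', Matrix.mulVec_smul] at h3
    rw [← h3, smul_smul, inv_mul_cancel₀ hζ0, one_smul, h3]
  have hlam : ζ + ζ⁻¹ = ((2 * Real.cos (2 * Real.pi * (k / m)) : ℝ) : ℂ) := by
    have e1 : ζ = Complex.exp (((2 * Real.pi * (k / m) : ℝ) : ℂ) * Complex.I) := by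
      show Complex.exp _ = _
      congr 1
      push_cast
      ring
    generalize 2 * Real.pi * ((k : ℝ) / m) = θ at e1 ⊢
    rw [e1, ← Complex.exp_neg, ← neg_mul]
    have e2 : ((2 * Real.cos θ : ℝ) : ℂ) = 2 * Complex.cos (θ : ℂ) := by push_cast; rfl
    rw [e2, Complex.cos]
    ring
  let t : Matrix (Fin n) (Fin n) ℝ := (R g).map (algebraMap ℚ ℝ) + (R g⁻¹).map (algebraMap ℚ ℝ) -
    Matrix.scalar (Fin n) (2 * Real.cos (2 * Real.pi * (k / m)))
  have h5 : (t.map (algebraMap ℝ ℂ)) *ᵥ v = 0 := by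
    have h6 : t.map (algebraMap ℝ ℂ) = (R g).map (algebraMap ℚ ℂ) + (R g⁻¹).map (algebraMap ℚ ℂ) -
        Matrix.scalar (Fin n) (ζ + ζ⁻¹) := by
      rw [hlam]
      ext i j
      by_cases hij : i = j
      · subst hij
        simp [t, Matrix.scalar_apply]
      · simp [t, Matrix.scalar_apply, Matrix.diagonal_apply_ne _ hij]
    rw [h6, Matrix.sub_mulVec, Matrix.add_mulVec, hv', h1]
    ext i
    simp [Matrix.scalar_apply, add_mul]
  have h7 : (t.map (algebraMap ℝ ℂ)).det = 0 := Matrix.exists_mulVec_eq_zero_iff.mp ⟨v, hv, h5⟩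
  have h8 : t.det = 0 := by
    have : (algebraMap ℝ ℂ) t.det = 0 := by rw [RingHom.map_det]; exact h7
    exact (algebraMap ℝ ℂ).injective (by rw [this, map_zero])
  obtain ⟨w, hw, hw'⟩ := Matrix.exists_mulVec_eq_zero_iff.mpr h8
  refine ⟨w, hw, ?_⟩
  rw [Matrix.sub_mulVec, Matrix.add_mulVec, sub_eq_zero] at hw'
  rw [hw']
  ext i
  simp [Matrix.scalar_apply, Matrix.mulVec_diagonal]

end spec

/-- real form of a fixed-point-free rational representation -/
structure RealFPF (G : Type u) [Group G] (n : ℕ) where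
  ρ : G →* Module.End ℝ (Fin n → ℝ)
  fpf : ∀ g : G, g ≠ 1 → ∀ v : Fin n → ℝ, ρ g v = v → v = 0
  eig : ∀ g : G, ∀ k : ℕ, Nat.Coprime k (orderOf g) → ∃ v : Fin n → ℝ, v ≠ 0 ∧
    ρ g v + ρ g⁻¹ v = (2 * Real.cos (2 * Real.pi * (k / orderOf g))) • v

theorem exists_realFPF [Finite G] (h : HasMat ℚ G) : ∃ n, Nonempty (RealFPF G n) := by
  classical
  obtain ⟨n, R, hn, hR⟩ := h
  refine ⟨n, ⟨⟨?_, ?_, ?_⟩⟩⟩
  · exact 
      { toFun := fun g => Matrix.mulVecLin ((R g).map (algebraMap ℚ ℝ))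
        map_one' := by
          rw [map_one, Matrix.map_one _ (map_zero _) (map_one _), Matrix.mulVecLin_one]; rfl
        map_mul' := by
          intro g h
          rw [map_mul, Matrix.map_mul, Matrix.mulVecLin_mul]; rfl }
  · intro g hg v hv
    have h1 : ((R g).map (algebraMap ℚ ℝ)) *ᵥ v = v := hv
    have h2 : IsUnit (R g - 1) := isUnit_sub_one hR hg
    have h3 : ((R g - 1).map (algebraMap ℚ ℝ)) *ᵥ v = 0 := by
      rw [Matrix.map_sub _ (map_sub _), Matrix.map_one _ (map_zero _) (map_one _), Matrix.sub_mulVec, h1,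
        Matrix.one_mulVec, sub_self]
    by_contra hv0
    have h4 := Matrix.exists_mulVec_eq_zero_iff.mp ⟨v, hv0, h3⟩
    have h5 : (algebraMap ℚ ℝ) (R g - 1).det = 0 := by rw [RingHom.map_det]; exact h4
    have h6 : (R g - 1).det = 0 := (algebraMap ℚ ℝ).injective (by rw [h5, map_zero])
    rw [Matrix.isUnit_iff_isUnit_det, h6] at h2
    exact not_isUnit_zero h2
  · intro g k hk
    exact exists_eigen_real hn hR g (orderOf_pos g) k hk

namespace RealFPF

variable [Fintype G] {n : ℕ} (V : RealFPF G n)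

/-- invariant form -/
def B (v w : Fin n → ℝ) : ℝ := ∑ g : G, (V.ρ g v) ⬝ᵥ (V.ρ g w)

theorem B_comm (v w : Fin n → ℝ) : V.B v w = V.B w v := by
  simp only [B, dotProduct_comm]

theorem B_add_left (u v w : Fin n → ℝ) : V.B (u + v) w = V.B u w + V.B v w := by
  simp only [B, map_add, add_dotProduct, Finset.sum_add_distrib]

theorem B_smul_left (a : ℝ) (v w : Fin n → ℝ) : V.B (a • v) w = a * V.B v w := by
  simp only [B, map_smul, smul_dotProduct, Finset.mul_sum, smul_eq_mul]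

theorem B_add_right (u v w : Fin n → ℝ) : V.B w (u + v) = V.B w u + V.B w v := by
  rw [B_comm, B_add_left, B_comm V u, B_comm V v]

theorem B_smul_right (a : ℝ) (v w : Fin n → ℝ) : V.B w (a • v) = a * V.B w v := by
  rw [B_comm, B_smul_left, B_comm]

theorem B_neg_right (v w : Fin n → ℝ) : V.B w (-v) = - V.B w v := by
  rw [← neg_one_smul ℝ v, B_smul_right]; ring

theorem B_neg_left (v w : Fin n → ℝ) : V.B (-v) w = - V.B v w := by
  rw [B_comm, B_neg_right, B_comm]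

theorem B_inv (g : G) (v w : Fin n → ℝ) : V.B (V.ρ g v) (V.ρ g w) = V.B v w := by
  simp only [B]
  have h1 : ∀ h : G, V.ρ h (V.ρ g v) ⬝ᵥ V.ρ h (V.ρ g w) = V.ρ (h * g) v ⬝ᵥ V.ρ (h * g) w := by
    intro h; rw [map_mul]; rfl
  rw [Finset.sum_congr rfl (fun h _ => h1 h)]
  exact Equiv.sum_comp (Equiv.mulRight g) (fun h => V.ρ h v ⬝ᵥ V.ρ h w)

theorem ρ_inv_apply (g : G) (v : Fin n → ℝ) : V.ρ g⁻¹ (V.ρ g v) = v := by
  have : V.ρ g⁻¹ (V.ρ g v) = V.ρ (g⁻¹ * g) v := by rw [map_mul]; rfl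
  rw [this, inv_mul_cancel, map_one]; rfl

theorem ρ_apply_inv (g : G) (v : Fin n → ℝ) : V.ρ g (V.ρ g⁻¹ v) = v := by
  have : V.ρ g (V.ρ g⁻¹ v) = V.ρ (g * g⁻¹) v := by rw [map_mul]; rfl
  rw [this, mul_inv_cancel, map_one]; rfl

theorem ρ_mul_apply (g h : G) (v : Fin n → ℝ) : V.ρ (g * h) v = V.ρ g (V.ρ h v) := by
  rw [map_mul]; rfl

theorem B_adj (g : G) (v w : Fin n → ℝ) : V.B (V.ρ g v) w = V.B v (V.ρ g⁻¹ w) := by
  rw [← B_inv V g v, ρ_apply_inv]

theorem B_self_nonneg (v : Fin n → ℝ) : 0 ≤ V.B v v := by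
  apply Finset.sum_nonneg
  intro g _
  exact Finset.sum_nonneg (fun i _ => mul_self_nonneg _)

theorem B_self_eq_zero {v : Fin n → ℝ} (h : V.B v v = 0) : v = 0 := by
  have h1 := (Finset.sum_eq_zero_iff_of_nonneg (fun (g : G) _ =>
    (Finset.sum_nonneg (fun i _ => mul_self_nonneg _) : 0 ≤ (V.ρ g v) ⬝ᵥ (V.ρ g v)))).mp h 1 (Finset.mem_univ _)
  rw [map_one] at h1
  exact dotProduct_self_eq_zero.mp h1

theorem B_self_pos {v : Fin n → ℝ} (h : v ≠ 0) : 0 < V.B v v :=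
  lt_of_le_of_ne (V.B_self_nonneg v) (fun h1 => h (V.B_self_eq_zero h1.symm))

theorem order_three_apply {x : G} (hx : x * x * x = 1) (hx1 : x ≠ 1) (v : Fin n → ℝ) :
    V.ρ x⁻¹ v = - v - V.ρ x v := by
  have h1 : V.ρ x (V.ρ x v) + V.ρ x v + v = 0 := by
    apply V.fpf x hx1
    have h2 : V.ρ x (V.ρ x (V.ρ x v)) = v := by
      rw [← ρ_mul_apply, ← ρ_mul_apply, hx, map_one]; rfl
    rw [map_add, map_add, h2]
    abel
  have h2 : x⁻¹ = x * x := inv_eq_of_mul_eq_one_left hx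
  rw [h2, ρ_mul_apply]
  have : V.ρ x (V.ρ x v) = - v - V.ρ x v + (V.ρ x (V.ρ x v) + V.ρ x v + v) := by abel
  rw [this, h1, add_zero]

/-- positivity for a pair of elements of order three -/
theorem three_three {x z : G} (hx : x * x * x = 1) (hx1 : x ≠ 1) (hz : z * z * z = 1) (hz1 : z ≠ 1) (hne : x ≠ z)
    (lam : ℝ) {v : Fin n → ℝ} (hv : v ≠ 0) (ht : V.ρ (x * z) v + V.ρ (x * z)⁻¹ v = lam • v) : -1 < lam := by
  have h1 : V.ρ x⁻¹ (V.ρ z v) + V.ρ z⁻¹ (V.ρ x v) = (1 - lam) • v := by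
    rw [_root_.mul_inv_rev, ρ_mul_apply, ρ_mul_apply] at ht
    have h2 := V.order_three_apply hx hx1 (V.ρ z v)
    have h3 := V.order_three_apply hx hx1 v
    have h4 := V.order_three_apply hz hz1 v
    have h5 : V.ρ z⁻¹ (V.ρ x⁻¹ v) = - V.ρ z⁻¹ v - V.ρ z⁻¹ (V.ρ x v) := by rw [h3, map_sub, map_neg]
    rw [h5, h4] at ht
    rw [h2, sub_smul, one_smul, ← ht]
    abel
  have h2 : 2 * V.B (V.ρ x v) (V.ρ z v) = (1 - lam) * V.B v v := by
    have e1 : V.B (V.ρ x v) (V.ρ z v) = V.B v (V.ρ x⁻¹ (V.ρ z v)) := V.B_adj _ _ _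
    have e2 : V.B (V.ρ x v) (V.ρ z v) = V.B v (V.ρ z⁻¹ (V.ρ x v)) := by rw [B_comm, B_adj]
    have e3 : (1 - lam) * V.B v v = V.B v ((1 - lam) • v) := (V.B_smul_right _ _ _).symm
    rw [e3, ← h1, B_add_right, ← e1, ← e2]; ring
  have h3 : V.B (V.ρ x v + - V.ρ z v) (V.ρ x v + - V.ρ z v) = (1 + lam) * V.B v v := by
    rw [B_add_left, B_add_right, B_add_right, B_neg_left, B_neg_left, B_neg_right, B_neg_right, B_inv, B_inv,
      B_comm V (V.ρ z v)]
    linarith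
  have hpos := V.B_self_pos hv
  have h4 := V.B_self_nonneg (V.ρ x v + - V.ρ z v)
  rw [h3] at h4
  by_contra hcon
  push Not at hcon
  have h5 : (1 + lam) * V.B v v = 0 := le_antisymm (mul_nonpos_of_nonpos_of_nonneg (by linarith) hpos.le) h4
  rw [← h3] at h5
  have h6 := V.B_self_eq_zero h5
  have h7 : V.ρ x v = V.ρ z v := by rw [← sub_eq_zero, sub_eq_add_neg]; exact h6
  apply hv
  apply V.fpf (z⁻¹ * x)
  · intro h8
    exact hne (inv_mul_eq_one.mp h8).symm
  · rw [ρ_mul_apply, h7, ρ_inv_apply]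

theorem order_four_apply {i : G} (hi : i * i * i * i = 1) (hi1 : i * i ≠ 1) (v : Fin n → ℝ) :
    V.ρ i (V.ρ i v) = - v := by
  rw [eq_neg_iff_add_eq_zero]
  apply V.fpf (i * i) hi1
  rw [map_add]
  have h2 : V.ρ (i * i) (V.ρ i (V.ρ i v)) = v := by
    rw [← ρ_mul_apply, ← ρ_mul_apply, hi, map_one]; rfl
  rw [h2, ρ_mul_apply, add_comm]

theorem order_four_inv {i : G} (hi : i * i * i * i = 1) (hi1 : i * i ≠ 1) (v : Fin n → ℝ) :
    V.ρ i⁻¹ v = - V.ρ i v := by
  have h1 := V.order_four_apply hi hi1 (V.ρ i⁻¹ v)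
  rw [ρ_apply_inv] at h1
  rw [h1, neg_neg]

/-- positivity for an element of order four and an element of order three -/
theorem four_three {i z : G} (hi : i * i * i * i = 1) (hi1 : i * i ≠ 1) (hz : z * z * z = 1) (hz1 : z ≠ 1)
    (hne : i * z ≠ z * i) (lam : ℝ) {v : Fin n → ℝ} (hv : v ≠ 0)
    (ht : V.ρ (i * z) v + V.ρ (i * z)⁻¹ v = lam • v) : -Real.sqrt 3 < lam ∧ lam < Real.sqrt 3 := by
  -- the key identity
  have key : ∀ (ε : ℝ), ε * ε = 1 → ∀ w : Fin n → ℝ, V.ρ (i * z) w + V.ρ (i * z)⁻¹ w = lam • w →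
      V.B (Real.sqrt 3 • V.ρ i w + ε • ((2 : ℝ) • V.ρ z w + w)) (Real.sqrt 3 • V.ρ i w + ε • ((2 : ℝ) • V.ρ z w + w)) =
        (6 - 2 * Real.sqrt 3 * ε * lam) * V.B w w := by
    intro ε hε w hw
    have h3 : Real.sqrt 3 * Real.sqrt 3 = 3 := Real.mul_self_sqrt (by norm_num)
    have e1 : V.B (V.ρ i w) (V.ρ i w) = V.B w w := V.B_inv _ _ _
    have e2 : V.B (V.ρ z w) (V.ρ z w) = V.B w w := V.B_inv _ _ _
    have e3 : 2 * V.B (V.ρ z w) w = - V.B w w := by
      have a1 : V.B (V.ρ z w) w = V.B w (V.ρ z⁻¹ w) := V.B_adj _ _ _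
      rw [V.order_three_apply hz hz1, sub_eq_add_neg, B_add_right, B_neg_right, B_neg_right, B_comm V w (V.ρ z w)] at a1
      linarith
    have e4 : V.B (V.ρ i w) w = 0 := by
      have a1 : V.B (V.ρ i w) w = V.B w (V.ρ i⁻¹ w) := V.B_adj _ _ _
      rw [V.order_four_inv hi hi1, B_neg_right, B_comm V w] at a1
      linarith
    have e5 : 2 * V.B (V.ρ i w) (V.ρ z w) = - (lam * V.B w w) := by
      have a1 : V.B (V.ρ i w) (V.ρ z w) = V.B w (V.ρ i⁻¹ (V.ρ z w)) := V.B_adj _ _ _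
      have a2 : V.B (V.ρ i w) (V.ρ z w) = V.B w (V.ρ z⁻¹ (V.ρ i w)) := by rw [B_comm, B_adj]
      rw [V.order_four_inv hi hi1, B_neg_right, ← ρ_mul_apply] at a1
      have a3 : V.ρ z⁻¹ (V.ρ i w) = - V.ρ (i * z)⁻¹ w := by
        rw [_root_.mul_inv_rev, ρ_mul_apply, V.order_four_inv hi hi1 w, map_neg, neg_neg]
      rw [a3, B_neg_right] at a2
      have a4 := congrArg (fun y => V.B w y) hw
      simp only [B_add_right, B_smul_right] at a4
      linarith
    simp only [B_add_left, B_add_right, B_smul_left, B_smul_right]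
    rw [B_comm V w (V.ρ i w), B_comm V w (V.ρ z w), B_comm V (V.ρ z w) (V.ρ i w), e1, e2, e4]
    have e3' : V.B (V.ρ z w) w = - V.B w w / 2 := by linarith
    have e5' : V.B (V.ρ i w) (V.ρ z w) = - (lam * V.B w w) / 2 := by linarith
    rw [e3', e5']
    linear_combination (V.B w w) * h3 + 3 * (V.B w w) * hε
  have hpos := V.B_self_pos hv
  have hiw : V.ρ (i * z) (V.ρ i v) + V.ρ (i * z)⁻¹ (V.ρ i v) = lam • V.ρ i v := by
    rw [← map_smul, ← ht, map_add, _root_.mul_inv_rev, ρ_mul_apply, ρ_mul_apply, ρ_mul_apply, ρ_mul_apply, ρ_inv_apply,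
      V.order_four_apply hi hi1, V.order_four_inv hi hi1 v, map_neg, map_neg, V.order_three_apply hz hz1,
      V.order_three_apply hz hz1, map_sub, map_neg, V.order_four_apply hi hi1]
    abel
  have hlt : ∀ ε : ℝ, ε * ε = 1 → 0 < 6 - 2 * Real.sqrt 3 * ε * lam := by
    intro ε hε
    by_contra hcon
    push Not at hcon
    have hz0 : ∀ w : Fin n → ℝ, V.ρ (i * z) w + V.ρ (i * z)⁻¹ w = lam • w →
        Real.sqrt 3 • V.ρ i w + ε • ((2 : ℝ) • V.ρ z w + w) = 0 := by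
      intro w hw
      apply V.B_self_eq_zero
      apply le_antisymm _ (V.B_self_nonneg _)
      rw [key ε hε w hw]
      exact mul_nonpos_of_nonpos_of_nonneg hcon (V.B_self_nonneg _)
    have h1 := hz0 v ht
    have h2 := hz0 _ hiw
    -- apply i to h1 and compare
    have h3 := congrArg (V.ρ i) h1
    rw [map_add, map_smul, map_smul, map_add, map_smul, map_zero, ← h2] at h3
    have h4 := add_left_cancel h3
    have hε0 : ε ≠ 0 := by rintro rfl; norm_num at hε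
    have h5 := smul_right_injective _ hε0 h4
    have h6 : (2 : ℝ) • V.ρ i (V.ρ z v) = (2 : ℝ) • V.ρ z (V.ρ i v) := add_right_cancel h5
    have h7 : V.ρ i (V.ρ z v) = V.ρ z (V.ρ i v) := smul_right_injective _ (by norm_num : (2 : ℝ) ≠ 0) h6
    apply hv
    apply V.fpf ((z * i)⁻¹ * (i * z))
    · intro h8
      exact hne (inv_mul_eq_one.mp h8).symm
    · rw [ρ_mul_apply, ρ_mul_apply V i z, h7, ← ρ_mul_apply V z i, ρ_inv_apply]
  have hs : 0 < Real.sqrt 3 := Real.sqrt_pos.mpr (by norm_num)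
  have h3 : Real.sqrt 3 * Real.sqrt 3 = 3 := Real.mul_self_sqrt (by norm_num)
  have h1 := hlt 1 (by norm_num)
  have h2 := hlt (-1) (by norm_num)
  constructor
  · nlinarith
  · nlinarith

theorem cos_le_neg_half {k m : ℕ} (hm : 0 < m) (h1 : m ≤ 3 * k) (h2 : 2 * k ≤ m) :
    2 * Real.cos (2 * Real.pi * (k / m)) ≤ -1 := by
  have hpi := Real.pi_pos
  have hm' : (0 : ℝ) < m := Nat.cast_pos.mpr hm
  have h1' : (m : ℝ) ≤ 3 * k := by exact_mod_cast h1
  have h2' : 2 * (k : ℝ) ≤ m := by exact_mod_cast h2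
  have hq1 : (1 : ℝ) / 3 ≤ (k : ℝ) / m := by rw [div_le_div_iff₀ (by norm_num) hm']; linarith
  have hq2 : (k : ℝ) / m ≤ 1 / 2 := by rw [div_le_div_iff₀ hm' (by norm_num)]; linarith
  have h3 : Real.cos (2 * Real.pi * (k / m)) ≤ Real.cos (Real.pi - Real.pi / 3) := by
    apply Real.cos_le_cos_of_nonneg_of_le_pi
    · linarith
    · nlinarith
    · nlinarith
  rw [Real.cos_pi_sub, Real.cos_pi_div_three] at h3
  linarith

theorem cos_le_neg_sqrt {k m : ℕ} (hm : 0 < m) (h1 : 5 * m ≤ 12 * k) (h2 : 2 * k ≤ m) :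
    2 * Real.cos (2 * Real.pi * (k / m)) ≤ -Real.sqrt 3 := by
  have hpi := Real.pi_pos
  have hm' : (0 : ℝ) < m := Nat.cast_pos.mpr hm
  have h1' : 5 * (m : ℝ) ≤ 12 * k := by exact_mod_cast h1
  have h2' : 2 * (k : ℝ) ≤ m := by exact_mod_cast h2
  have hq1 : (5 : ℝ) / 12 ≤ (k : ℝ) / m := by rw [div_le_div_iff₀ (by norm_num) hm']; linarith
  have hq2 : (k : ℝ) / m ≤ 1 / 2 := by rw [div_le_div_iff₀ hm' (by norm_num)]; linarith
  have h3 : Real.cos (2 * Real.pi * (k / m)) ≤ Real.cos (Real.pi - Real.pi / 6) := by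
    apply Real.cos_le_cos_of_nonneg_of_le_pi
    · linarith
    · nlinarith
    · nlinarith
  rw [Real.cos_pi_sub, Real.cos_pi_div_six] at h3
  linarith

theorem sqrt_le_cos {m : ℕ} (hm : 12 ≤ m) : Real.sqrt 3 ≤ 2 * Real.cos (2 * Real.pi * ((1 : ℕ) / m)) := by
  have hpi := Real.pi_pos
  have hm' : (12 : ℝ) ≤ m := by exact_mod_cast hm
  have hq1 : (0 : ℝ) ≤ ((1 : ℕ) : ℝ) / m := by positivity
  have hq2 : ((1 : ℕ) : ℝ) / m ≤ 1 / 12 := by
    rw [Nat.cast_one]
    exact one_div_le_one_div_of_le (by norm_num) hm'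
  have h3 : Real.cos (Real.pi / 6) ≤ Real.cos (2 * Real.pi * ((1 : ℕ) / m)) := by
    apply Real.cos_le_cos_of_nonneg_of_le_pi
    · exact mul_nonneg (by linarith) hq1
    · linarith
    · nlinarith
  rw [Real.cos_pi_div_six] at h3
  linarith

include V in
theorem orderOf_three_three {x z : G} (hx : x * x * x = 1) (hx1 : x ≠ 1) (hz : z * z * z = 1) (hz1 : z ≠ 1)
    (hne : x ≠ z) (hxz : x * z ≠ 1) : orderOf (x * z) = 4 ∨ orderOf (x * z) = 6 ∨ orderOf (x * z) = 10 := by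
  set m := orderOf (x * z) with hm
  have hm0 : 0 < m := orderOf_pos _
  have hm1 : m ≠ 1 := by rw [hm, Ne, orderOf_eq_one_iff]; exact hxz
  have key : ∀ k : ℕ, Nat.Coprime k m → ¬ (m ≤ 3 * k ∧ 2 * k ≤ m) := by
    rintro k hk ⟨h1, h2⟩
    obtain ⟨v, hv, hv'⟩ := V.eig (x * z) k hk
    have h3 := V.three_three hx hx1 hz hz1 hne _ hv hv'
    have h4 := cos_le_neg_half hm0 h1 h2
    linarith
  -- odd m
  by_cases hodd : m % 2 = 1
  · exfalso
    apply key ((m - 1) / 2)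
    · have h1 : m = 2 * ((m - 1) / 2) + 1 := by omega
      rw [Nat.coprime_comm, h1]
      simp
    · omega
  by_cases h4 : m % 4 = 2
  · by_cases h2 : m = 2
    · exfalso
      apply key 1 (Nat.coprime_one_left m)
      omega
    · -- m/2 - 2
      by_cases h12 : 12 ≤ m
      · exfalso
        apply key (m / 2 - 2)
        · have h5 : m = 2 * (m / 2 - 2) + 4 := by omega
          have h6 : (m / 2 - 2) % 2 = 1 := by omega
          rw [Nat.coprime_comm]
          nth_rewrite 1 [h5]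
          rw [Nat.Coprime, add_comm, mul_comm, Nat.gcd_add_mul_left_left]
          exact (Nat.Coprime.pow_left 2 ((Nat.coprime_two_left).mpr (Nat.odd_iff.mpr h6)) : Nat.Coprime (2 ^ 2) _)
        · omega
      · omega
  · by_cases h44 : m = 4
    · left; exact h44
    · exfalso
      apply key (m / 2 - 1)
      · have h5 : m = 2 * (m / 2 - 1) + 2 := by omega
        have h6 : (m / 2 - 1) % 2 = 1 := by omega
        rw [Nat.coprime_comm]
        nth_rewrite 1 [h5]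
        rw [Nat.Coprime, add_comm, mul_comm, Nat.gcd_add_mul_left_left]
        exact (Nat.coprime_two_left).mpr (Nat.odd_iff.mpr h6)
      · omega

include V in
theorem orderOf_four_three {i z : G} (hi : i * i * i * i = 1) (hi1 : i * i ≠ 1) (hz : z * z * z = 1) (hz1 : z ≠ 1)
    (hne : i * z ≠ z * i) : orderOf (i * z) = 3 ∨ orderOf (i * z) = 4 ∨ orderOf (i * z) = 5 ∨ orderOf (i * z) = 6 ∨
      orderOf (i * z) = 8 ∨ orderOf (i * z) = 10 := by
  set m := orderOf (i * z) with hm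
  have hm0 : 0 < m := orderOf_pos _
  have key : ∀ k : ℕ, Nat.Coprime k m → ¬ (5 * m ≤ 12 * k ∧ 2 * k ≤ m) := by
    rintro k hk ⟨h1, h2⟩
    obtain ⟨v, hv, hv'⟩ := V.eig (i * z) k hk
    have h3 := V.four_three hi hi1 hz hz1 hne _ hv hv'
    have h4 := cos_le_neg_sqrt hm0 h1 h2
    linarith [h3.1]
  have key2 : m < 12 := by
    by_contra hcon
    push Not at hcon
    obtain ⟨v, hv, hv'⟩ := V.eig (i * z) 1 (Nat.coprime_one_left _)
    have h3 := V.four_three hi hi1 hz hz1 hne _ hv hv'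
    have h4 := sqrt_le_cos hcon
    rw [← hm] at h3
    linarith [h3.2]
  have hm1 : m ≠ 1 := by
    intro h1
    rw [hm, orderOf_eq_one_iff] at h1
    apply hne
    have h2 : z = i⁻¹ := (inv_eq_of_mul_eq_one_right h1).symm
    rw [h2, mul_inv_cancel, inv_mul_cancel]
  have hm2 : m ≠ 2 := fun h => key 1 (Nat.coprime_one_left _) (by omega)
  have hodd : m % 2 = 1 → m < 6 := by
    intro hodd
    by_contra hcon
    apply key ((m - 1) / 2)
    · have h1 : m = 2 * ((m - 1) / 2) + 1 := by omega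
      rw [Nat.coprime_comm, h1]
      simp
    · omega
  omega

end RealFPF

end Cfsg.Agent.FC
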