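import Mathlib

/-!
Quaternion frames in noncommutative rings.
-/

set_option autoImplicit false
set_option linter.unusedSectionVars false

namespace Cfsg.Agent.FC

universe u

/-- a quaternion frame -/
structure Frame (A : Type u) [Ring A] where
  I : A
  J : A
  K : A
  II : I * I = -1
  JJ : J * J = -1
  IJ : I * J = K
  JI : J * I = -K

namespace Frame

variable {A : Type u} [Ring A] (F : Frame A)

theorem KJ : F.K * F.J = -F.I := by rw [← F.IJ, mul_assoc, F.JJ, mul_neg, mul_one]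
theorem IK : F.I * F.K = -F.J := by rw [← F.IJ, ← mul_assoc, F.II, neg_mul, one_mul]
theorem JK : F.J * F.K = F.I := by
  rw [← F.IJ, ← mul_assoc, F.JI, neg_mul, F.KJ, neg_neg]
theorem KI : F.K * F.I = F.J := by
  rw [← F.IJ, mul_assoc, F.JI, mul_neg, F.IK, neg_neg]
theorem KK : F.K * F.K = -1 := by
  nth_rewrite 2 [← F.IJ]
  rw [← mul_assoc, F.KI, F.JJ]

theorem II' (w : A) : F.I * (F.I * w) = -w := by rw [← mul_assoc, F.II, neg_mul, one_mul]
theorem JJ' (w : A) : F.J * (F.J * w) = -w := by rw [← mul_assoc, F.JJ, neg_mul, one_mul]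
theorem KK' (w : A) : F.K * (F.K * w) = -w := by rw [← mul_assoc, F.KK, neg_mul, one_mul]
theorem IJ' (w : A) : F.I * (F.J * w) = F.K * w := by rw [← mul_assoc, F.IJ]
theorem JK' (w : A) : F.J * (F.K * w) = F.I * w := by rw [← mul_assoc, F.JK]
theorem KI' (w : A) : F.K * (F.I * w) = F.J * w := by rw [← mul_assoc, F.KI]
theorem JI' (w : A) : F.J * (F.I * w) = -(F.K * w) := by rw [← mul_assoc, F.JI, neg_mul]
theorem KJ' (w : A) : F.K * (F.J * w) = -(F.I * w) := by rw [← mul_assoc, F.KJ, neg_mul]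
theorem IK' (w : A) : F.I * (F.K * w) = -(F.J * w) := by rw [← mul_assoc, F.IK, neg_mul]

attribute [local simp] II JJ KK IJ JK KI JI KJ IK II' JJ' KK' IJ' JK' KI' JI' KJ' IK' mul_assoc mul_add add_mul mul_sub sub_mul

/-- elements commuting with the frame -/
structure Cen (v : A) : Prop where
  I : v * F.I = F.I * v
  J : v * F.J = F.J * v

variable {F}

theorem Cen.K {v : A} (h : F.Cen v) : v * F.K = F.K * v := by
  rw [← F.IJ, ← mul_assoc, h.I, mul_assoc, h.J, mul_assoc]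

theorem Cen.I' {v : A} (h : F.Cen v) (w : A) : v * (F.I * w) = F.I * (v * w) := by rw [← mul_assoc, h.I, mul_assoc]
theorem Cen.J' {v : A} (h : F.Cen v) (w : A) : v * (F.J * w) = F.J * (v * w) := by rw [← mul_assoc, h.J, mul_assoc]
theorem Cen.K' {v : A} (h : F.Cen v) (w : A) : v * (F.K * w) = F.K * (v * w) := by rw [← mul_assoc, h.K, mul_assoc]

theorem Cen.add {v w : A} (h : F.Cen v) (h' : F.Cen w) : F.Cen (v + w) :=
  ⟨by rw [add_mul, mul_add, h.I, h'.I], by rw [add_mul, mul_add, h.J, h'.J]⟩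
theorem Cen.neg {v : A} (h : F.Cen v) : F.Cen (-v) :=
  ⟨by rw [neg_mul, mul_neg, h.I], by rw [neg_mul, mul_neg, h.J]⟩
theorem Cen.sub {v w : A} (h : F.Cen v) (h' : F.Cen w) : F.Cen (v - w) := by
  rw [sub_eq_add_neg]; exact h.add h'.neg
theorem Cen.mul {v w : A} (h : F.Cen v) (h' : F.Cen w) : F.Cen (v * w) :=
  ⟨by rw [mul_assoc, h'.I, ← mul_assoc, h.I, mul_assoc], by rw [mul_assoc, h'.J, ← mul_assoc, h.J, mul_assoc]⟩
theorem Cen.one : F.Cen (1 : A) := ⟨by rw [one_mul, mul_one], by rw [one_mul, mul_one]⟩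
theorem Cen.zero : F.Cen (0 : A) := ⟨by rw [zero_mul, mul_zero], by rw [zero_mul, mul_zero]⟩
theorem Cen.nat (n : ℕ) : F.Cen (n : A) := ⟨Nat.cast_comm _ _, Nat.cast_comm _ _⟩
theorem Cen.ofNat (n : ℕ) [n.AtLeastTwo] : F.Cen (OfNat.ofNat n : A) := Cen.nat n

theorem Cen.smul [Algebra ℚ A] (q : ℚ) {v : A} (h : F.Cen v) : F.Cen (q • v) :=
  ⟨by rw [smul_mul_assoc, mul_smul_comm, h.I], by rw [smul_mul_assoc, mul_smul_comm, h.J]⟩

variable (F)

/-- rotated frame -/
def rot : Frame A := ⟨F.J, F.K, F.I, F.JJ, F.KK, F.JK, F.KJ⟩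

/-- sign changes -/
def sgnI : Frame A := ⟨F.I, -F.J, -F.K, F.II, by simp, by simp, by simp⟩
def sgnJ : Frame A := ⟨-F.I, F.J, -F.K, by simp, by simp, by simp, by simp⟩
def sgnK : Frame A := ⟨-F.I, -F.J, F.K, by simp, by simp, by simp, by simp⟩

variable {F}

theorem Cen.sgnI {v : A} (h : F.Cen v) : F.sgnI.Cen v :=
  ⟨h.I, by show v * -F.J = -F.J * v; rw [mul_neg, neg_mul, h.J]⟩
theorem Cen.sgnJ {v : A} (h : F.Cen v) : F.sgnJ.Cen v :=
  ⟨by show v * -F.I = -F.I * v; rw [mul_neg, neg_mul, h.I], h.J⟩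
theorem Cen.sgnK {v : A} (h : F.Cen v) : F.sgnK.Cen v :=
  ⟨by show v * -F.I = -F.I * v; rw [mul_neg, neg_mul, h.I], by show v * -F.J = -F.J * v; rw [mul_neg, neg_mul, h.J]⟩
theorem Cen.rot {v : A} (h : F.Cen v) : F.rot.Cen v := ⟨h.J, h.K⟩

variable (F)

theorem decomp [Algebra ℚ A] (c : A) : ∃ c0 v1 v2 v3 : A, F.Cen c0 ∧ F.Cen v1 ∧ F.Cen v2 ∧ F.Cen v3 ∧
    c = c0 + F.I * v1 + F.J * v2 + F.K * v3 := by
  have h0 : F.Cen (c - F.I * c * F.I - F.J * c * F.J - F.K * c * F.K) := by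
    constructor
    · simp; abel
    · simp; abel
  have h1 : F.Cen (-(F.I * c + c * F.I + F.K * c * F.J - F.J * c * F.K)) := by
    constructor
    · simp; abel
    · simp; abel
  have h2 : F.Cen (-(F.J * c + c * F.J + F.I * c * F.K - F.K * c * F.I)) := by
    constructor
    · simp; abel
    · simp; abel
  have h3 : F.Cen (-(F.K * c + c * F.K + F.J * c * F.I - F.I * c * F.J)) := by
    constructor
    · simp; abel
    · simp; abel
  refine ⟨_, _, _, _, h0.smul (1/4), h1.smul (1/4), h2.smul (1/4), h3.smul (1/4), ?_⟩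
  rw [mul_smul_comm, mul_smul_comm, mul_smul_comm, ← smul_add, ← smul_add, ← smul_add]
  have h4 : c = (1/4 : ℚ) • ((4 : ℚ) • c) := by rw [smul_smul]; norm_num
  nth_rewrite 1 [h4]
  congr 1
  have h5 : (4 : ℚ) • c = c + c + c + c := by
    have : (4 : ℚ) = 1 + 1 + 1 + 1 := by norm_num
    rw [this, add_smul, add_smul, add_smul, one_smul]
  rw [h5]
  simp
  abel

theorem two_ne [Algebra ℚ A] {a : A} (h : a + a = 0) : a = 0 := by
  have h1 : a = (1/2 : ℚ) • (a + a) := by rw [← two_smul ℚ a, smul_smul]; norm_num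
  rw [h1, h, smul_zero]

theorem uniq [Algebra ℚ A] {c0 v1 v2 v3 : A} (h0 : F.Cen c0) (h1 : F.Cen v1) (h2 : F.Cen v2) (h3 : F.Cen v3)
    (h : c0 + F.I * v1 + F.J * v2 + F.K * v3 = 0) : c0 = 0 ∧ v1 = 0 ∧ v2 = 0 ∧ v3 = 0 := by
  have e1 : (c0 + F.I * v1) + (c0 + F.I * v1) = 0 := by
    have : (c0 + F.I * v1) + (c0 + F.I * v1) = (c0 + F.I * v1 + F.J * v2 + F.K * v3) -
        F.I * (c0 + F.I * v1 + F.J * v2 + F.K * v3) * F.I := by
      simp [h0.I, h1.I, h2.I, h3.I]; abel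
    rw [this, h]; simp
  have e2 : (c0 + F.J * v2) + (c0 + F.J * v2) = 0 := by
    have : (c0 + F.J * v2) + (c0 + F.J * v2) = (c0 + F.I * v1 + F.J * v2 + F.K * v3) -
        F.J * (c0 + F.I * v1 + F.J * v2 + F.K * v3) * F.J := by
      simp [h0.J, h1.J, h2.J, h3.J]; abel
    rw [this, h]; simp
  have e3 : (c0 + F.K * v3) + (c0 + F.K * v3) = 0 := by
    have : (c0 + F.K * v3) + (c0 + F.K * v3) = (c0 + F.I * v1 + F.J * v2 + F.K * v3) -
        F.K * (c0 + F.I * v1 + F.J * v2 + F.K * v3) * F.K := by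
      simp [h0.K, h1.K, h2.K, h3.K]; abel
    rw [this, h]; simp
  have f1 := two_ne e1
  have f2 := two_ne e2
  have f3 := two_ne e3
  have g0 : c0 = 0 := by
    apply two_ne
    have : c0 + c0 = (c0 + F.I * v1) - F.J * (c0 + F.I * v1) * F.J := by
      simp [h0.J, h1.J]
    rw [this, f1]; simp
  rw [g0, zero_add] at f1 f2 f3
  refine ⟨g0, ?_, ?_, ?_⟩
  · have := congrArg (fun t => F.I * t) f1
    simpa using this
  · have := congrArg (fun t => F.J * t) f2
    simpa using this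
  · have := congrArg (fun t => F.K * t) f3
    simpa using this

end Frame

end Cfsg.Agent.FC
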