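import Cfsg.Agent.FC.Quat

/-!
The classification of elements `c` with `c² = -3` against a quaternion frame.
-/

set_option autoImplicit false
set_option linter.unusedSectionVars false
set_option linter.unusedSimpArgs false

namespace Cfsg.Agent.FC

universe u

namespace Frame

variable {A : Type u} [Ring A] (F : Frame A)

attribute [local simp] II JJ KK IJ JK KI JI KJ IK II' JJ' KK' IJ' JK' KI' JI' KJ' IK' mul_assoc mul_add add_mul mul_sub sub_mul

theorem four_ne [Algebra ℚ A] {a : A} (h : a + a + a + a = 0) : a = 0 := by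
  apply two_ne
  apply two_ne
  rw [← h]; abel

theorem five_ne [Algebra ℚ A] {a : A} {n : ℕ} (hn : n ≠ 0) (h : (n : A) * a = 0) : a = 0 := by
  have h1 : a = (1/n : ℚ) • ((n : A) * a) := by
    have : (n : A) * a = (n : ℚ) • a := by
      rw [Nat.cast_smul_eq_nsmul, nsmul_eq_mul]
    rw [this, smul_smul, one_div, inv_mul_cancel₀ (Nat.cast_ne_zero.mpr hn), one_smul]
  rw [h1, h, smul_zero]

variable {F}

theorem typeP [Algebra ℚ A] {c0 v1 v2 v3 : A} (h0 : F.Cen c0) (h1 : F.Cen v1) (h2 : F.Cen v2) (h3 : F.Cen v3)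
    {c : A} (hc : c = c0 + F.I * v1 + F.J * v2 + F.K * v3)
    (hP : (F.I + F.J + F.K) * c + c * (F.I + F.J + F.K) = 2 ∨ (F.I + F.J + F.K) * c + c * (F.I + F.J + F.K) = -2 ∨
      ((F.I + F.J + F.K) * c + c * (F.I + F.J + F.K)) * ((F.I + F.J + F.K) * c + c * (F.I + F.J + F.K)) = 20) :
    c0 * (v1 + v2 + v3) + (v1 + v2 + v3) * c0 = 0 ∧
      ((c0 = 0 ∧ (v1 + v2 + v3 = 1 ∨ v1 + v2 + v3 = -1)) ∨
        (v1 + v2 + v3) * (v1 + v2 + v3) = 5 + (c0 * c0 + c0 * c0 + c0 * c0)) := by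
  set w := v1 + v2 + v3 with hw
  have hwC : F.Cen w := (h1.add h2).add h3
  have hPe : (F.I + F.J + F.K) * c + c * (F.I + F.J + F.K) =
      ((F.I + F.J + F.K) * c0 - w) + ((F.I + F.J + F.K) * c0 - w) := by
    rw [hc, hw]
    simp [h0.I, h0.J, h0.K, h1.I, h1.J, h1.K, h2.I, h2.J, h2.K, h3.I, h3.J, h3.K]
    abel
  rw [hPe] at hP
  have hscal : ∀ e : A, F.Cen e → (F.I + F.J + F.K) * c0 - w = e → c0 = 0 ∧ w = -e := by
    intro e he hY
    have h4 : (-(w + e)) + F.I * c0 + F.J * c0 + F.K * c0 = 0 := by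
      have : (F.I + F.J + F.K) * c0 - w - e = 0 := by rw [hY, sub_self]
      rw [← this]; simp; abel
    obtain ⟨a1, a2, -, -⟩ := F.uniq (hwC.add he).neg h0 h0 h0 h4
    exact ⟨a2, by rw [neg_eq_zero] at a1; exact eq_neg_of_add_eq_zero_left a1⟩
  rcases hP with hP | hP | hP
  · have hY : (F.I + F.J + F.K) * c0 - w = 1 := by
      apply sub_eq_zero.mp
      apply two_ne
      calc (F.I + F.J + F.K) * c0 - w - 1 + ((F.I + F.J + F.K) * c0 - w - 1)
          = (((F.I + F.J + F.K) * c0 - w) + ((F.I + F.J + F.K) * c0 - w)) - (1 + 1) := by abel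
        _ = 0 := by rw [hP, one_add_one_eq_two, sub_self]
    obtain ⟨e1, e2⟩ := hscal 1 Cen.one hY
    refine ⟨by rw [e1]; simp, Or.inl ⟨e1, Or.inr e2⟩⟩
  · have hY : (F.I + F.J + F.K) * c0 - w = -1 := by
      apply sub_eq_zero.mp
      apply two_ne
      calc (F.I + F.J + F.K) * c0 - w - -1 + ((F.I + F.J + F.K) * c0 - w - -1)
          = (((F.I + F.J + F.K) * c0 - w) + ((F.I + F.J + F.K) * c0 - w)) + (1 + 1) := by abel
        _ = 0 := by rw [hP, one_add_one_eq_two, neg_add_cancel]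
    obtain ⟨e1, e2⟩ := hscal (-1) Cen.one.neg hY
    refine ⟨by rw [e1]; simp, Or.inl ⟨e1, Or.inl (by rw [e2, neg_neg])⟩⟩
  · have hYY : ((F.I + F.J + F.K) * c0 - w) * ((F.I + F.J + F.K) * c0 - w) = 5 := by
      apply sub_eq_zero.mp
      apply four_ne
      set Y := (F.I + F.J + F.K) * c0 - w
      have h20 : (20 : A) = 5 + 5 + 5 + 5 := by norm_num
      calc Y * Y - 5 + (Y * Y - 5) + (Y * Y - 5) + (Y * Y - 5) = (Y + Y) * (Y + Y) - (5 + 5 + 5 + 5) := by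
            rw [mul_add, add_mul]; abel
        _ = 0 := by rw [hP, h20, sub_self]
    have h4 : (w * w - 5 - (c0 * c0 + c0 * c0 + c0 * c0)) + F.I * (-(c0 * w + w * c0)) + F.J * (-(c0 * w + w * c0)) +
        F.K * (-(c0 * w + w * c0)) = 0 := by
      have : ((F.I + F.J + F.K) * c0 - w) * ((F.I + F.J + F.K) * c0 - w) - 5 = 0 := by rw [hYY, sub_self]
      rw [← this]
      simp [h0.I, h0.J, h0.K, h0.I', h0.J', h0.K', hwC.I, hwC.J, hwC.K, hwC.I', hwC.J', hwC.K']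
      abel
    have hn : F.Cen (-(c0 * w + w * c0)) := ((h0.mul hwC).add (hwC.mul h0)).neg
    have hm : F.Cen (w * w - 5 - (c0 * c0 + c0 * c0 + c0 * c0)) :=
      ((hwC.mul hwC).sub (Cen.ofNat 5)).sub (((h0.mul h0).add (h0.mul h0)).add (h0.mul h0))
    obtain ⟨a1, a2, -, -⟩ := F.uniq hm hn hn hn h4
    refine ⟨neg_eq_zero.mp a2, Or.inr ?_⟩
    have : w * w = (w * w - 5 - (c0 * c0 + c0 * c0 + c0 * c0)) + (5 + (c0 * c0 + c0 * c0 + c0 * c0)) := by abel
    rw [this, a1, zero_add]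

/-- the square of `c` -/
theorem sq_comp [Algebra ℚ A] {c0 v1 v2 v3 : A} (h0 : F.Cen c0) (h1 : F.Cen v1) (h2 : F.Cen v2) (h3 : F.Cen v3)
    {c : A} (hc : c = c0 + F.I * v1 + F.J * v2 + F.K * v3) (hcc : c * c = -3) :
    c0 * c0 + 3 = v1 * v1 + v2 * v2 + v3 * v3 ∧ c0 * v1 + v1 * c0 + (v2 * v3 - v3 * v2) = 0 ∧
      c0 * v2 + v2 * c0 + (v3 * v1 - v1 * v3) = 0 ∧ c0 * v3 + v3 * c0 + (v1 * v2 - v2 * v1) = 0 := by
  have h4 : (c0 * c0 + 3 - (v1 * v1 + v2 * v2 + v3 * v3)) + F.I * (c0 * v1 + v1 * c0 + (v2 * v3 - v3 * v2)) +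
      F.J * (c0 * v2 + v2 * c0 + (v3 * v1 - v1 * v3)) + F.K * (c0 * v3 + v3 * c0 + (v1 * v2 - v2 * v1)) = 0 := by
    have : c * c + 3 = 0 := by rw [hcc, neg_add_cancel]
    rw [← this, hc]
    simp [h0.I, h0.J, h0.K, h0.I', h0.J', h0.K', h1.I, h1.J, h1.K, h1.I', h1.J', h1.K', h2.I, h2.J, h2.K,
      h2.I', h2.J', h2.K', h3.I, h3.J, h3.K, h3.I', h3.J', h3.K']
    abel
  obtain ⟨a0, a1, a2, a3⟩ := F.uniq
    (((h0.mul h0).add (Cen.ofNat 3)).sub (((h1.mul h1).add (h2.mul h2)).add (h3.mul h3)))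
    (((h0.mul h1).add (h1.mul h0)).add ((h2.mul h3).sub (h3.mul h2)))
    (((h0.mul h2).add (h2.mul h0)).add ((h3.mul h1).sub (h1.mul h3)))
    (((h0.mul h3).add (h3.mul h0)).add ((h1.mul h2).sub (h2.mul h1))) h4
  exact ⟨sub_eq_zero.mp a0, a1, a2, a3⟩

/-- types for the elements of order four -/
def TypeU (U : A) : Prop :=
  U = 0 ∨ U = 2 ∨ U = -2 ∨ U * U = 8 ∨ U * U = 12 ∨ U * U + (U + U) = 4 ∨ U * U - (U + U) = 4

theorem typeU [Algebra ℚ A] [Nontrivial A] {c0 v1 v2 v3 : A} (h0 : F.Cen c0) (h1 : F.Cen v1) (h2 : F.Cen v2) (h3 : F.Cen v3)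
    {c : A} (hc : c = c0 + F.I * v1 + F.J * v2 + F.K * v3) (hU : TypeU (F.I * c + c * F.I))
    (hc0 : c0 * c0 = -1) (hac : c0 * v1 + v1 * c0 = 0) : v1 * v1 = 1 ∨ v1 * v1 = 2 := by
  have hc0' : c0 ≠ 0 := by
    intro h
    rw [h, zero_mul] at hc0
    exact one_ne_zero (neg_eq_zero.mp hc0.symm)
  have hUe : F.I * c + c * F.I = (F.I * c0 - v1) + (F.I * c0 - v1) := by
    rw [hc]
    simp [h0.I, h0.J, h0.K, h1.I, h1.J, h1.K, h2.I, h2.J, h2.K, h3.I, h3.J, h3.K]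
    abel
  rw [hUe] at hU
  have hsq : (F.I * c0 - v1) * (F.I * c0 - v1) = 1 + v1 * v1 := by
    have : (F.I * c0 - v1) * (F.I * c0 - v1) = -(c0 * c0) + v1 * v1 - F.I * (c0 * v1 + v1 * c0) := by
      simp [h0.I, h0.J, h0.K, h0.I', h1.I, h1.I']
      abel
    rw [this, hac, hc0]; simp
  set Y := F.I * c0 - v1 with hY
  have hlin : ∀ e : A, F.Cen e → ∀ n : ℕ, n ≠ 0 → (n : A) * Y = e → False := by
    intro e he n hn h
    have h4 : (-((n : A) * v1) - e) + F.I * ((n : A) * c0) + F.J * 0 + F.K * 0 = 0 := by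
      have h5 : (n : A) * Y - e = 0 := by rw [h, sub_self]
      have hn' : (n : A) * (F.I * c0) = F.I * ((n : A) * c0) := by rw [← mul_assoc, Nat.cast_comm, mul_assoc]
      calc (-((n : A) * v1) - e) + F.I * ((n : A) * c0) + F.J * 0 + F.K * 0 = (n : A) * Y - e := by
            rw [hY, mul_sub, hn', mul_zero, mul_zero]; abel
        _ = 0 := h5
    obtain ⟨-, a1, -, -⟩ := F.uniq (((Cen.nat n).mul h1).neg.sub he) ((Cen.nat n).mul h0) Cen.zero Cen.zero h4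
    exact hc0' (five_ne hn a1)
  have h4Y : (Y + Y) * (Y + Y) = 4 + 4 * (v1 * v1) := by
    have : (Y + Y) * (Y + Y) = Y * Y + Y * Y + Y * Y + Y * Y := by rw [mul_add, add_mul]; abel
    rw [this, hsq]
    have e4 : (4 : A) = 1 + 1 + 1 + 1 := by norm_num
    rw [e4, add_mul, add_mul, add_mul, one_mul]
    abel
  rcases hU with hU | hU | hU | hU | hU | hU | hU
  · exact absurd (show ((2 : ℕ) : A) * Y = 0 by rw [Nat.cast_ofNat, two_mul, hU]) (fun h => hlin 0 Cen.zero 2 (by norm_num) h)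
  · exact absurd (show ((2 : ℕ) : A) * Y = 2 by rw [Nat.cast_ofNat, two_mul, hU]) (fun h => hlin 2 (Cen.ofNat 2) 2 (by norm_num) h)
  · exact absurd (show ((2 : ℕ) : A) * Y = -2 by rw [Nat.cast_ofNat, two_mul, hU]) (fun h => hlin (-2) (Cen.ofNat 2).neg 2 (by norm_num) h)
  · left
    rw [h4Y] at hU
    apply sub_eq_zero.mp
    apply five_ne (n := 4) (by norm_num)
    rw [Nat.cast_ofNat, mul_sub, mul_one]
    have e8 : (8 : A) = 4 + 4 := by norm_num
    rw [e8] at hU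
    rw [add_left_cancel hU, sub_self]
  · right
    rw [h4Y] at hU
    apply sub_eq_zero.mp
    apply five_ne (n := 4) (by norm_num)
    rw [Nat.cast_ofNat, mul_sub]
    have e8 : (12 : A) = 4 + 4 * 2 := by norm_num
    rw [e8] at hU
    rw [add_left_cancel hU, sub_self]
  · exfalso
    apply hlin (-(4 * (v1 * v1))) ((Cen.ofNat 4).mul (h1.mul h1)).neg 4 (by norm_num)
    rw [h4Y] at hU
    have h4 : ((4 : ℕ) : A) * Y = Y + Y + (Y + Y) := by
      have : ((4 : ℕ) : A) = 1 + 1 + 1 + 1 := by norm_num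
      rw [this, add_mul, add_mul, add_mul, one_mul]; abel
    rw [h4]
    have : Y + Y + (Y + Y) = (4 + 4 * (v1 * v1) + (Y + Y + (Y + Y))) - (4 + 4 * (v1 * v1)) := by abel
    rw [this, hU]; abel
  · exfalso
    apply hlin (4 * (v1 * v1)) ((Cen.ofNat 4).mul (h1.mul h1)) 4 (by norm_num)
    rw [h4Y] at hU
    have h4 : ((4 : ℕ) : A) * Y = Y + Y + (Y + Y) := by
      have : ((4 : ℕ) : A) = 1 + 1 + 1 + 1 := by norm_num
      rw [this, add_mul, add_mul, add_mul, one_mul]; abel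
    rw [h4]
    have : Y + Y + (Y + Y) = (4 + 4 * (v1 * v1)) - (4 + 4 * (v1 * v1) - (Y + Y + (Y + Y))) := by abel
    rw [this, hU]; abel

end Frame

end Cfsg.Agent.FC
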