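import Cfsg.Agent.FC.Quat2

/-!
The classification of elements `c` with `c² = -3` against a quaternion frame: main theorem.
-/

set_option autoImplicit false
set_option linter.unusedSectionVars false
set_option linter.unusedSimpArgs false

namespace Cfsg.Agent.FC

universe u

namespace Frame

variable {A : Type u} [Ring A] (F : Frame A)

attribute [local simp] II JJ KK IJ JK KI JI KJ IK II' JJ' KK' IJ' JK' KI' JI' KJ' IK' mul_assoc mul_add add_mul mul_sub sub_mul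

/-- the sum of the three units -/
def s : A := F.I + F.J + F.K

/-- types for the elements of order three -/
def TypeP (P : A) : Prop := P = 2 ∨ P = -2 ∨ P * P = 20

theorem two_scalar [Algebra ℚ A] [Nontrivial A] {a b w w' : A} (ha : a = 1 ∨ a = -1) (hb : b = 1 ∨ b = -1)
    (hw : w * w = 5) (hw' : w' * w' = 5) (hsum : a + b + w + w' = 0) : b = -a ∧ w' = -w := by
  have : CharZero A := algebraRat.charZero A
  have key : ∀ e : A, (e = 1 ∨ e = -1) → w' = -(e + e) - w → False := by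
    intro e he h
    have hee : e * e = 1 := by rcases he with rfl | rfl <;> simp
    have hew : e * w = w * e := by rcases he with rfl | rfl <;> simp
    rw [h] at hw'
    have h1 : (-(e + e) - w) * (-(e + e) - w) = 4 * (e * e) + w * w + 4 * (e * w) := by
      have e4 : (4 : A) = 1 + 1 + 1 + 1 := by norm_num
      rw [e4]
      simp [hew]
      abel
    rw [h1, hee, hw, mul_one] at hw'
    have h2 : 4 * (1 + e * w) = 0 := by
      have : 4 * (1 + e * w) = (4 + 5 + 4 * (e * w)) - 5 := by rw [mul_add, mul_one]; abel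
      rw [this, hw', sub_self]
    have h3 : 1 + e * w = 0 := five_ne (n := 4) (by norm_num) (by rw [Nat.cast_ofNat]; exact h2)
    have h4 : w = -e := by
      have : w = e * (1 + e * w) - e := by rw [mul_add, ← mul_assoc, hee]; simp
      rw [this, h3]; simp
    rw [h4] at hw
    rw [neg_mul_neg, hee] at hw
    norm_num at hw
  rcases ha with rfl | rfl <;> rcases hb with rfl | rfl
  · exact (key 1 (Or.inl rfl) (by
      have : w' = (1 + 1 + w + w') - (1 + 1) - w := by abel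
      rw [this, hsum]; abel)).elim
  · refine ⟨rfl, ?_⟩
    have : w' = (1 + -1 + w + w') - w := by abel
    rw [this, hsum]; abel
  · refine ⟨(neg_neg _).symm, ?_⟩
    have : w' = (-1 + 1 + w + w') - w := by abel
    rw [this, hsum]; abel
  · exact (key (-1) (Or.inr rfl) (by
      have : w' = (-1 + -1 + w + w') - (-1 + -1) - w := by abel
      rw [this, hsum]; abel)).elim

theorem main [Algebra ℚ A] [Nontrivial A] {c : A} (hcc : c * c = -3)
    (hP1 : TypeP (F.s * c + c * F.s)) (hP2 : TypeP (F.sgnI.s * c + c * F.sgnI.s))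
    (hP3 : TypeP (F.sgnJ.s * c + c * F.sgnJ.s)) (hP4 : TypeP (F.sgnK.s * c + c * F.sgnK.s))
    (hU1 : TypeU (F.I * c + c * F.I)) (hU2 : TypeU (F.J * c + c * F.J)) :
    ∃ T e d : A, F.Cen T ∧ T * T = 5 ∧ (e = 1 ∨ e = -1) ∧ (d = 1 ∨ d = -1) ∧
      (c + c = F.J * (e + T) + d * F.K * (e - T) ∨ c + c = F.K * (e + T) + d * F.I * (e - T) ∨
        c + c = F.I * (e + T) + d * F.J * (e - T)) := by
  have : CharZero A := algebraRat.charZero A
  obtain ⟨c0, v1, v2, v3, h0, h1, h2, h3, hc⟩ := F.decomp c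
  obtain ⟨a1, t1⟩ := typeP h0 h1 h2 h3 hc hP1
  obtain ⟨a2, t2⟩ := typeP (F := F.sgnI) h0.sgnI h1.sgnI h2.neg.sgnI h3.neg.sgnI
    (by rw [hc]; simp [sgnI]) hP2
  obtain ⟨a3, t3⟩ := typeP (F := F.sgnJ) h0.sgnJ h1.neg.sgnJ h2.sgnJ h3.neg.sgnJ
    (by rw [hc]; simp [sgnJ]) hP3
  obtain ⟨a4, t4⟩ := typeP (F := F.sgnK) h0.sgnK h1.neg.sgnK h2.neg.sgnK h3.sgnK
    (by rw [hc]; simp [sgnK]) hP4
  obtain ⟨q0, q1, q2, q3⟩ := sq_comp h0 h1 h2 h3 hc hcc
  -- anticommutation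
  have b1 : c0 * v1 + v1 * c0 = 0 := by
    apply two_ne
    calc c0 * v1 + v1 * c0 + (c0 * v1 + v1 * c0) = (c0 * (v1 + v2 + v3) + (v1 + v2 + v3) * c0) +
          (c0 * (v1 + -v2 + -v3) + (v1 + -v2 + -v3) * c0) := by simp; abel
      _ = 0 := by rw [a1, a2, add_zero]
  have b2 : c0 * v2 + v2 * c0 = 0 := by
    apply two_ne
    calc c0 * v2 + v2 * c0 + (c0 * v2 + v2 * c0) = (c0 * (v1 + v2 + v3) + (v1 + v2 + v3) * c0) +
          (c0 * (-v1 + v2 + -v3) + (-v1 + v2 + -v3) * c0) := by simp; abel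
      _ = 0 := by rw [a1, a3, add_zero]
  have b3 : c0 * v3 + v3 * c0 = 0 := by
    apply two_ne
    calc c0 * v3 + v3 * c0 + (c0 * v3 + v3 * c0) = (c0 * (v1 + v2 + v3) + (v1 + v2 + v3) * c0) +
          (c0 * (-v1 + -v2 + v3) + (-v1 + -v2 + v3) * c0) := by simp; abel
      _ = 0 := by rw [a1, a4, add_zero]
  have c23 : v3 * v2 = v2 * v3 := by
    rw [b1, zero_add, sub_eq_zero] at q1; exact q1.symm
  have c31 : v3 * v1 = v1 * v3 := by
    rw [b2, zero_add, sub_eq_zero] at q2; exact q2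
  have c12 : v2 * v1 = v1 * v2 := by
    rw [b3, zero_add, sub_eq_zero] at q3; exact q3.symm
  -- squares
  have s1 : (v1 + v2 + v3) * (v1 + v2 + v3) = (v1 * v1 + v2 * v2 + v3 * v3) + (v1 * v2 + v1 * v2) + (v1 * v3 + v1 * v3) +
      (v2 * v3 + v2 * v3) := by simp [c23, c31, c12]; abel
  have s2 : (v1 + -v2 + -v3) * (v1 + -v2 + -v3) = (v1 * v1 + v2 * v2 + v3 * v3) - (v1 * v2 + v1 * v2) - (v1 * v3 + v1 * v3) +
      (v2 * v3 + v2 * v3) := by simp [c23, c31, c12]; abel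
  have s3 : (-v1 + v2 + -v3) * (-v1 + v2 + -v3) = (v1 * v1 + v2 * v2 + v3 * v3) - (v1 * v2 + v1 * v2) + (v1 * v3 + v1 * v3) -
      (v2 * v3 + v2 * v3) := by simp [c23, c31, c12]; abel
  have s4 : (-v1 + -v2 + v3) * (-v1 + -v2 + v3) = (v1 * v1 + v2 * v2 + v3 * v3) + (v1 * v2 + v1 * v2) - (v1 * v3 + v1 * v3) -
      (v2 * v3 + v2 * v3) := by simp [c23, c31, c12]; abel
  rw [← q0] at s1 s2 s3 s4
  by_cases hc00 : c0 = 0
  · -- c0 = 0
    rw [hc00, zero_mul, zero_add] at s1 s2 s3 s4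
    have u1 : (v1 + v2 + v3 = 1 ∨ v1 + v2 + v3 = -1) ∨ (v1 + v2 + v3) * (v1 + v2 + v3) = 5 := by
      rcases t1 with t | t
      · exact Or.inl t.2
      · rw [hc00] at t; right; simpa using t
    have u2 : (v1 + -v2 + -v3 = 1 ∨ v1 + -v2 + -v3 = -1) ∨ (v1 + -v2 + -v3) * (v1 + -v2 + -v3) = 5 := by
      rcases t2 with t | t
      · exact Or.inl t.2
      · rw [hc00] at t; right; rw [t]; simp
    have u3 : (-v1 + v2 + -v3 = 1 ∨ -v1 + v2 + -v3 = -1) ∨ (-v1 + v2 + -v3) * (-v1 + v2 + -v3) = 5 := by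
      rcases t3 with t | t
      · exact Or.inl t.2
      · rw [hc00] at t; right; rw [t]; simp
    have u4 : (-v1 + -v2 + v3 = 1 ∨ -v1 + -v2 + v3 = -1) ∨ (-v1 + -v2 + v3) * (-v1 + -v2 + v3) = 5 := by
      rcases t4 with t | t
      · exact Or.inl t.2
      · rw [hc00] at t; right; rw [t]; simp
    have C1 : F.Cen (v1 + v2 + v3) := (h1.add h2).add h3
    have C2 : F.Cen (v1 + -v2 + -v3) := (h1.add h2.neg).add h3.neg
    have C3 : F.Cen (-v1 + v2 + -v3) := (h1.neg.add h2).add h3.neg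
    have C4 : F.Cen (-v1 + -v2 + v3) := (h1.neg.add h2.neg).add h3
    have hcc2 : c + c = F.I * ((v1 + v2 + v3) + (v1 + -v2 + -v3)) + F.J * ((v1 + v2 + v3) + (-v1 + v2 + -v3)) +
        F.K * ((v1 + v2 + v3) + (-v1 + -v2 + v3)) := by
      rw [hc, hc00]; simp; abel
    have hsum : (v1 + v2 + v3) + (v1 + -v2 + -v3) + (-v1 + v2 + -v3) + (-v1 + -v2 + v3) = 0 := by abel
    have hsq : (v1 + v2 + v3) * (v1 + v2 + v3) + (v1 + -v2 + -v3) * (v1 + -v2 + -v3) +
        (-v1 + v2 + -v3) * (-v1 + v2 + -v3) + (-v1 + -v2 + v3) * (-v1 + -v2 + v3) = 12 := by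
      rw [s1, s2, s3, s4]
      have e12 : (12 : A) = 3 + 3 + 3 + 3 := by norm_num
      rw [e12]; abel
    clear s1 s2 s3 s4 t1 t2 t3 t4 hP1 hP2 hP3 hP4 hU1 hU2 a1 a2 a3 a4 b1 b2 b3 q0 q1 q2 q3
    generalize v1 + v2 + v3 = w1 at *
    generalize v1 + -v2 + -v3 = w2 at *
    generalize -v1 + v2 + -v3 = w3 at *
    generalize -v1 + -v2 + v3 = w4 at *
    have hone : ∀ w : A, (w = 1 ∨ w = -1) → w * w = 1 := by
      rintro w (rfl | rfl) <;> simp
    have hneg : ∀ w : A, (w = 1 ∨ w = -1) → (-w = 1 ∨ -w = -1) := by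
      rintro w (rfl | rfl)
      · right; rfl
      · left; simp
    rcases u1 with u1 | u1 <;> rcases u2 with u2 | u2 <;> rcases u3 with u3 | u3 <;> rcases u4 with u4 | u4
    · exfalso; rw [hone _ u1, hone _ u2, hone _ u3, hone _ u4] at hsq; norm_num at hsq
    · exfalso; rw [hone _ u1, hone _ u2, hone _ u3, u4] at hsq; norm_num at hsq
    · exfalso; rw [hone _ u1, hone _ u2, u3, hone _ u4] at hsq; norm_num at hsq
    · -- w1 w2 scalar
      obtain ⟨e1, e2⟩ := two_scalar u1 u2 u3 u4 hsum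
      refine ⟨w3, w1, 1, C3, u3, u1, Or.inl rfl, Or.inl ?_⟩
      rw [hcc2, e1, e2]; simp; abel
    · exfalso; rw [hone _ u1, u2, hone _ u3, hone _ u4] at hsq; norm_num at hsq
    · -- w1 w3 scalar
      obtain ⟨e1, e2⟩ := two_scalar u1 u3 u2 u4 (by rw [← hsum]; abel)
      refine ⟨w4, w1, 1, C4, u4, u1, Or.inl rfl, Or.inr (Or.inl ?_)⟩
      rw [hcc2, e1, e2]; simp; abel
    · -- w1 w4 scalar
      obtain ⟨e1, e2⟩ := two_scalar u1 u4 u2 u3 (by rw [← hsum]; abel)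
      refine ⟨w2, w1, 1, C2, u2, u1, Or.inl rfl, Or.inr (Or.inr ?_)⟩
      rw [hcc2, e1, e2]; simp; abel
    · exfalso; rw [hone _ u1, u2, u3, u4] at hsq; norm_num at hsq
    · exfalso; rw [u1, hone _ u2, hone _ u3, hone _ u4] at hsq; norm_num at hsq
    · -- w2 w3 scalar
      obtain ⟨e1, e2⟩ := two_scalar u2 u3 u1 u4 (by rw [← hsum]; abel)
      refine ⟨w1, w2, -1, C1, u1, u2, Or.inr rfl, Or.inr (Or.inr ?_)⟩
      rw [hcc2, e1, e2]; simp; abel
    · -- w2 w4 scalar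
      obtain ⟨e1, e2⟩ := two_scalar u2 u4 u1 u3 (by rw [← hsum]; abel)
      refine ⟨w1, w4, -1, C1, u1, u4, Or.inr rfl, Or.inr (Or.inl ?_)⟩
      rw [hcc2, e1, e2]; simp; abel
    · exfalso; rw [u1, hone _ u2, u3, u4] at hsq; norm_num at hsq
    · -- w3 w4 scalar
      obtain ⟨e1, e2⟩ := two_scalar u3 u4 u1 u2 (by rw [← hsum]; abel)
      refine ⟨w1, w3, -1, C1, u1, u3, Or.inr rfl, Or.inl ?_⟩
      rw [hcc2, e1, e2]; simp; abel
    · exfalso; rw [u1, u2, hone _ u3, u4] at hsq; norm_num at hsq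
    · exfalso; rw [u1, u2, u3, hone _ u4] at hsq; norm_num at hsq
    · exfalso; rw [u1, u2, u3, u4] at hsq; norm_num at hsq
  · -- c0 ≠ 0
    exfalso
    have t1' := t1.resolve_left (fun h => hc00 h.1)
    have t2' := t2.resolve_left (fun h => hc00 h.1)
    have t3' := t3.resolve_left (fun h => hc00 h.1)
    have t4' := t4.resolve_left (fun h => hc00 h.1)
    rw [t1'] at s1
    rw [t2'] at s2
    rw [t3'] at s3
    rw [t4'] at s4
    -- products vanish
    have d1 : v1 * v2 + v1 * v3 = 0 := by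
      apply four_ne
      calc v1 * v2 + v1 * v3 + (v1 * v2 + v1 * v3) + (v1 * v2 + v1 * v3) + (v1 * v2 + v1 * v3) =
          (c0 * c0 + 3 + (v1 * v2 + v1 * v2) + (v1 * v3 + v1 * v3) + (v2 * v3 + v2 * v3)) -
          (c0 * c0 + 3 - (v1 * v2 + v1 * v2) - (v1 * v3 + v1 * v3) + (v2 * v3 + v2 * v3)) := by abel
        _ = 0 := by rw [← s1, ← s2, sub_self]
    have d2 : v1 * v2 + v2 * v3 = 0 := by
      apply four_ne
      calc v1 * v2 + v2 * v3 + (v1 * v2 + v2 * v3) + (v1 * v2 + v2 * v3) + (v1 * v2 + v2 * v3) =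
          (c0 * c0 + 3 + (v1 * v2 + v1 * v2) + (v1 * v3 + v1 * v3) + (v2 * v3 + v2 * v3)) -
          (c0 * c0 + 3 - (v1 * v2 + v1 * v2) + (v1 * v3 + v1 * v3) - (v2 * v3 + v2 * v3)) := by abel
        _ = 0 := by rw [← s1, ← s3, sub_self]
    have d3 : v1 * v3 + v2 * v3 = 0 := by
      apply four_ne
      calc v1 * v3 + v2 * v3 + (v1 * v3 + v2 * v3) + (v1 * v3 + v2 * v3) + (v1 * v3 + v2 * v3) =
          (c0 * c0 + 3 + (v1 * v2 + v1 * v2) + (v1 * v3 + v1 * v3) + (v2 * v3 + v2 * v3)) -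
          (c0 * c0 + 3 + (v1 * v2 + v1 * v2) - (v1 * v3 + v1 * v3) - (v2 * v3 + v2 * v3)) := by abel
        _ = 0 := by rw [← s1, ← s4, sub_self]
    have d12 : v1 * v2 = 0 := by
      apply two_ne
      calc v1 * v2 + v1 * v2 = (v1 * v2 + v1 * v3) + (v1 * v2 + v2 * v3) - (v1 * v3 + v2 * v3) := by abel
        _ = 0 := by rw [d1, d2, d3]; simp
    have d13 : v1 * v3 = 0 := by rw [d12, zero_add] at d1; exact d1
    have d23 : v2 * v3 = 0 := by rw [d12, zero_add] at d2; exact d2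
    rw [d12, d13, d23] at s1
    simp only [add_zero] at s1
    have hc0 : c0 * c0 = -1 := by
      apply sub_eq_zero.mp
      apply two_ne
      have e5 : (5 : A) = 3 + (1 + 1) := by norm_num
      have : c0 * c0 - -1 + (c0 * c0 - -1) = (5 + (c0 * c0 + c0 * c0 + c0 * c0)) - (c0 * c0 + 3) := by
        rw [e5]; abel
      rw [this, s1, sub_self]
    have g1 := typeU h0 h1 h2 h3 hc hU1 hc0 b1
    have g2 := typeU (F := F.rot) h0.rot h2.rot h3.rot h1.rot (by rw [hc]; simp [rot]; abel) hU2 hc0 b2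
    have hz : (v1 * v1) * (v2 * v2) = 0 := by
      have : (v1 * v1) * (v2 * v2) = v1 * (v1 * v2) * v2 := by simp only [mul_assoc]
      rw [this, d12]; simp
    rcases g1 with g1 | g1 <;> rcases g2 with g2 | g2 <;> rw [g1, g2] at hz <;> norm_num at hz

end Frame

end Cfsg.Agent.FC
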