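import Cfsg.Agent.FC.Lift
import Cfsg.Agent.Frob.Nested

/-!
Frobenius complements have fixed-point-free rational representations.
-/

set_option autoImplicit false
set_option linter.unusedSectionVars false

namespace Cfsg.Agent.FC

open MonoidAlgebra Matrix

universe u v

variable {G : Type u} [Group G]

/-- `G` has a fixed-point-free matrix representation over `k`. -/
def HasMat (k : Type*) [Field k] (G : Type u) [Group G] : Prop :=
  ∃ (n : ℕ) (R : G →* Matrix (Fin n) (Fin n) k), 0 < n ∧ ∀ g : G, g ≠ 1 → ∀ v : Fin n → k, R g *ᵥ v = v → v = 0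

theorem HasMat.of_rep {k : Type*} [Field k] {V : Type*} [AddCommGroup V] [Module k V] [FiniteDimensional k V] [Nontrivial V]
    (ρ : Representation k G V) (hf : ∀ g : G, g ≠ 1 → ∀ v : V, ρ g v = v → v = 0) : HasMat k G := by
  classical
  let b := Module.finBasis k V
  refine ⟨Module.finrank k V, (LinearMap.toMatrixAlgEquiv b).toAlgHom.toRingHom.toMonoidHom.comp ρ, Module.finrank_pos, ?_⟩
  intro g hg v hv
  have h1 : LinearMap.toMatrix b b (ρ g) *ᵥ v = v := hv
  obtain ⟨w, rfl⟩ := b.equivFun.surjective v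
  have h2 : b.equivFun w = b.repr w := rfl
  rw [h2, LinearMap.toMatrix_mulVec_repr] at h1
  have h3 : ρ g w = w := b.repr.injective (DFunLike.coe_injective h1)
  rw [hf g hg w h3, map_zero]

theorem HasMat.of_injective {k : Type*} [Field k] {H : Type v} [Group H] (h : HasMat k G) (f : H →* G)
    (hf : Function.Injective f) : HasMat k H := by
  obtain ⟨n, R, hn, hR⟩ := h
  refine ⟨n, R.comp f, hn, ?_⟩
  intro g hg v hv
  exact hR (f g) (fun h => hg (hf (by rw [h, map_one]))) v hv

section rat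

/-- spanning set of the ideal of elements killed by all fixed-point-free representations -/
def sS (k : Type*) [CommRing k] (G : Type u) [Group G] : Set (MonoidAlgebra k G) :=
  {r | ∃ g h x : G, g ≠ 1 ∧ r = MonoidAlgebra.of k G h * nE k g * MonoidAlgebra.of k G x}

theorem exists_int_mul (r : MonoidAlgebra ℚ G) (hr : r ∈ Submodule.span ℚ (sS ℚ G)) :
    ∃ D : ℕ, D ≠ 0 ∧ ∃ j ∈ AddSubgroup.closure (sS ℤ G), (D : ℚ) • r = MonoidAlgebra.mapRingHom G (Int.castRingHom ℚ) j := by
  induction hr using Submodule.span_induction with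
  | mem r hr =>
    obtain ⟨g, h, x, hg, rfl⟩ := hr
    refine ⟨1, one_ne_zero, _, AddSubgroup.subset_closure ⟨g, h, x, hg, rfl⟩, ?_⟩
    rw [Nat.cast_one, one_smul, map_mul, map_mul, map_nE, MonoidAlgebra.of_apply, MonoidAlgebra.of_apply,
      MonoidAlgebra.of_apply, MonoidAlgebra.of_apply, mapRingHom_single, mapRingHom_single, map_one]
  | zero => exact ⟨1, one_ne_zero, 0, zero_mem _, by rw [smul_zero, map_zero]⟩
  | add a b _ _ ha hb =>
    obtain ⟨D, hD, j, hj, hDj⟩ := ha
    obtain ⟨E, hE, l, hl, hEl⟩ := hb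
    refine ⟨D * E, mul_ne_zero hD hE, E • j + D • l, add_mem (nsmul_mem hj _) (nsmul_mem hl _), ?_⟩
    rw [map_add, map_nsmul, map_nsmul, ← hDj, ← hEl, Nat.cast_mul, smul_add, ← Nat.cast_smul_eq_nsmul ℚ E,
      ← Nat.cast_smul_eq_nsmul ℚ D, smul_smul, smul_smul, mul_comm (D : ℚ)]
  | smul q a _ ha =>
    obtain ⟨D, hD, j, hj, hDj⟩ := ha
    refine ⟨D * q.den, mul_ne_zero hD q.den_nz, q.num • j, zsmul_mem hj _, ?_⟩
    rw [map_zsmul, ← hDj, Nat.cast_mul, smul_smul, ← Int.cast_smul_eq_zsmul ℚ, smul_smul, mul_assoc,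
      Rat.den_mul_eq_num, mul_comm]

theorem one_not_mem [Finite G] (hJ : ∀ D : ℕ, D ≠ 0 → (D : MonoidAlgebra ℤ G) ∉ AddSubgroup.closure (sS ℤ G)) :
    (1 : MonoidAlgebra ℚ G) ∉ Submodule.span ℚ (sS ℚ G) := by
  intro h1
  obtain ⟨D, hD, j, hj, hDj⟩ := exists_int_mul 1 h1
  apply hJ D hD
  have h2 : MonoidAlgebra.mapRingHom G (Int.castRingHom ℚ) (D : MonoidAlgebra ℤ G) =
      MonoidAlgebra.mapRingHom G (Int.castRingHom ℚ) j := by
    rw [← hDj, map_natCast, Nat.cast_smul_eq_nsmul, nsmul_eq_mul, mul_one]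
  have h3 : (D : MonoidAlgebra ℤ G) = j := by
    apply MonoidAlgebra.ext
    apply Finsupp.ext
    intro g
    have h4 := congrArg (fun r : MonoidAlgebra ℚ G => r.coeff g) h2
    simp only [coeff_mapRingHom] at h4
    exact Int.cast_injective h4
  rw [h3]
  exact hj

theorem nE_mul_mem (g : G) (hg : g ≠ 1) (r : MonoidAlgebra ℚ G) : nE ℚ g * r ∈ Submodule.span ℚ (sS ℚ G) := by
  induction r using MonoidAlgebra.induction_on with
  | of x =>
    apply Submodule.subset_span
    exact ⟨g, 1, x, hg, by rw [map_one, one_mul]⟩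
  | add a b ha hb => rw [mul_add]; exact add_mem ha hb
  | smul c a ha => rw [mul_smul_comm]; exact Submodule.smul_mem _ _ ha

theorem of_mul_mem (g : G) (r : MonoidAlgebra ℚ G) (hr : r ∈ Submodule.span ℚ (sS ℚ G)) :
    MonoidAlgebra.of ℚ G g * r ∈ Submodule.span ℚ (sS ℚ G) := by
  induction hr using Submodule.span_induction with
  | mem r hr =>
    obtain ⟨a, h, x, ha, rfl⟩ := hr
    apply Submodule.subset_span
    exact ⟨a, g * h, x, ha, by rw [map_mul, mul_assoc, mul_assoc, mul_assoc]⟩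
  | zero => rw [mul_zero]; exact zero_mem _
  | add a b _ _ ha hb => rw [mul_add]; exact add_mem ha hb
  | smul q a _ ha => rw [mul_smul_comm]; exact Submodule.smul_mem _ _ ha

theorem hasMat_rat_of [Finite G] (hJ : ∀ D : ℕ, D ≠ 0 → (D : MonoidAlgebra ℤ G) ∉ AddSubgroup.closure (sS ℤ G)) :
    HasMat ℚ G := by
  classical
  have : Fintype G := Fintype.ofFinite G
  let I := Submodule.span ℚ (sS ℚ G)
  let ρ : Representation ℚ G (MonoidAlgebra ℚ G ⧸ I) :=
    { toFun := fun g => I.mapQ I (LinearMap.mulLeft ℚ (MonoidAlgebra.of ℚ G g)) (fun r hr => of_mul_mem g r hr)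
      map_one' := by
        apply Submodule.linearMap_qext
        ext r
        simp
      map_mul' := by
        intro g h
        apply Submodule.linearMap_qext
        ext r
        simp [mul_assoc] }
  have hρ : ∀ (g : G) (r : MonoidAlgebra ℚ G), ρ g (Submodule.Quotient.mk r) = Submodule.Quotient.mk (MonoidAlgebra.of ℚ G g * r) :=
    fun g r => rfl
  have hnt : Nontrivial (MonoidAlgebra ℚ G ⧸ I) := by
    refine ⟨⟨Submodule.Quotient.mk 1, 0, ?_⟩⟩
    intro h
    rw [Submodule.Quotient.mk_eq_zero] at h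
    exact one_not_mem hJ h
  have hfd : FiniteDimensional ℚ (MonoidAlgebra ℚ G) := by
    have : FiniteDimensional ℚ (G →₀ ℚ) := inferInstance
    exact Module.Finite.equiv (MonoidAlgebra.coeffLinearEquiv ℚ).symm
  refine HasMat.of_rep ρ ?_
  intro g hg v hv
  obtain ⟨r, rfl⟩ := Submodule.Quotient.mk_surjective I v
  have h1 : ∀ i : ℕ, (Submodule.Quotient.mk (MonoidAlgebra.of ℚ G g ^ i * r) : MonoidAlgebra ℚ G ⧸ I) = Submodule.Quotient.mk r := by
    intro i
    induction i with
    | zero => rw [pow_zero, one_mul]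
    | succ i ih => rw [pow_succ', mul_assoc, ← hρ, ih, hv]
  have h2 : (Submodule.Quotient.mk (nE ℚ g * r) : MonoidAlgebra ℚ G ⧸ I) = (orderOf g) • Submodule.Quotient.mk r := by
    have h6 : (Submodule.Quotient.mk (nE ℚ g * r) : MonoidAlgebra ℚ G ⧸ I) =
        ∑ i ∈ Finset.range (orderOf g), (Submodule.Quotient.mk (MonoidAlgebra.of ℚ G g ^ i * r) : MonoidAlgebra ℚ G ⧸ I) := by
      rw [nE, Finset.sum_mul]
      exact map_sum I.mkQ _ _
    rw [h6, Finset.sum_congr rfl (fun i _ => h1 i), Finset.sum_const, Finset.card_range]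
  have h3 : (Submodule.Quotient.mk (nE ℚ g * r) : MonoidAlgebra ℚ G ⧸ I) = 0 := by
    rw [Submodule.Quotient.mk_eq_zero]
    exact nE_mul_mem g hg r
  rw [h3, ← Nat.cast_smul_eq_nsmul ℚ] at h2
  have h4 : (orderOf g : ℚ) ≠ 0 := Nat.cast_ne_zero.mpr (orderOf_pos g).ne'
  rcases smul_eq_zero.mp h2.symm with h5 | h5
  · exact absurd h5 h4
  · exact h5

end rat

theorem natCast_not_mem_of_mod [Finite G] {A : Type v} [AddCommGroup A] [Nontrivial A] {p : ℕ} [hp : Fact p.Prime]
    [Module (ZMod p) A] (ψ : G →* AddMonoid.End A) (hf : ∀ g : G, g ≠ 1 → ∀ a : A, ψ g a = a → a = 0)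
    (hpG : ¬ p ∣ Nat.card G) (D : ℕ) (hD : D ≠ 0) :
    (D : MonoidAlgebra ℤ G) ∉ AddSubgroup.closure (sS ℤ G) := by
  let ρ : Representation (ZMod p) G A :=
    { toFun := fun g => AddMonoidHom.toZModLinearMap p (ψ g)
      map_one' := by
        apply LinearMap.ext
        intro x
        show ψ 1 x = x
        rw [map_one]; rfl
      map_mul' := by
        intro g h
        apply LinearMap.ext
        intro x
        show ψ (g * h) x = ψ g (ψ h x)
        rw [map_mul]; rfl }
  have hne : NeZero ((Nat.card G : ℕ) : ZMod p) := ⟨by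
    rw [Ne, ZMod.natCast_eq_zero_iff]; exact hpG⟩
  obtain ⟨e, he, he0, hE⟩ := exists_idem ρ (by
    intro g hg x hx
    exact hf g hg x hx)
  exact natCast_not_mem he he0 hE hpG D hD

theorem natCast_not_mem_of_add [Finite G] {A : Type v} [AddCommGroup A] [Nontrivial A] {p : ℕ} (hp : p.Prime)
    (hpA : ∀ a : A, p • a = 0) (ψ : G →* AddMonoid.End A) (hf : ∀ g : G, g ≠ 1 → ∀ a : A, ψ g a = a → a = 0)
    (hpG : ¬ p ∣ Nat.card G) (D : ℕ) (hD : D ≠ 0) :
    (D : MonoidAlgebra ℤ G) ∉ AddSubgroup.closure (sS ℤ G) :=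
  @natCast_not_mem_of_mod G _ _ A _ _ p ⟨hp⟩ (AddCommGroup.zmodModule hpA) ψ hf hpG D hD

/-- A finite group with a fixed-point-free action on a nontrivial finite abelian group has a fixed-point-free
rational representation. -/
theorem hasMat_of_fpf [Finite G] {W : Type v} [CommGroup W] [Finite W] [Nontrivial W] (φ : G →* MulAut W)
    (hφ : Frob.IsFPF φ) : HasMat ℚ G := by
  classical
  apply hasMat_rat_of
  intro D hD
  obtain ⟨p, hp, hpW⟩ := Nat.exists_prime_and_dvd (Finite.one_lt_card (α := W)).ne'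
  have hpf : Fact p.Prime := ⟨hp⟩
  have hcop := hφ.coprime
  have hpG : ¬ p ∣ Nat.card G := by
    intro h
    have := Nat.dvd_gcd h hpW
    rw [hcop] at this
    exact hp.one_lt.ne' (Nat.dvd_one.mp this)
  -- the elementary abelian part
  let U : Subgroup W := (powMonoidHom p : W →* W).ker
  have hU : ∀ w : W, w ∈ U ↔ w ^ p = 1 := fun w => Iff.rfl
  obtain ⟨w0, hw0⟩ := exists_prime_orderOf_dvd_card' p hpW
  have hnt : Nontrivial (Additive U) := by
    refine ⟨⟨Additive.ofMul ⟨w0, by rw [hU, ← hw0, pow_orderOf_eq_one]⟩, 0, ?_⟩⟩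
    intro h
    have h1 : w0 = 1 := congrArg (fun x : Additive U => ((x.toMul : U) : W)) h
    rw [h1, orderOf_one] at hw0
    exact hp.one_lt.ne hw0
  let ψ0 : G → (U →* U) := fun g =>
    { toFun := fun u => ⟨φ g u, by rw [hU, ← map_pow, (hU _).mp u.2, map_one]⟩
      map_one' := Subtype.ext (map_one (φ g))
      map_mul' := fun a b => Subtype.ext (map_mul (φ g) _ _) }
  let ψ : G →* AddMonoid.End (Additive U) :=
    { toFun := fun g => MonoidHom.toAdditive (ψ0 g)
      map_one' := by
        apply AddMonoidHom.ext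
        intro x
        apply Additive.toMul.injective
        apply Subtype.ext
        show φ 1 ((x.toMul : U) : W) = ((x.toMul : U) : W)
        rw [map_one]; rfl
      map_mul' := by
        intro g h
        apply AddMonoidHom.ext
        intro x
        apply Additive.toMul.injective
        apply Subtype.ext
        show φ (g * h) ((x.toMul : U) : W) = φ g (φ h ((x.toMul : U) : W))
        rw [map_mul]; rfl }
  refine natCast_not_mem_of_add hp (fun x => ?_) ψ ?_ hpG D hD
  · apply Additive.toMul.injective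
    apply Subtype.ext
    exact (hU _).mp x.toMul.2
  · intro g hg x hx
    have h1 : φ g ((x.toMul : U) : W) = ((x.toMul : U) : W) := congrArg (fun x : Additive U => ((x.toMul : U) : W)) hx
    have h2 := hφ g hg _ h1
    apply Additive.toMul.injective
    exact Subtype.ext h2

theorem hasMat_of_hasFPFModule [Finite G] (h : Frob.HasFPFModule G) : HasMat ℚ G := by
  obtain ⟨W, i1, i2, i3, φ, hφ⟩ := h
  exact hasMat_of_fpf φ hφ

theorem hasMat_of_isFrobeniusComplement {L : Type v} [Group L] [Finite L] {H : Subgroup L} (hH : Cfsg.IsFrobeniusComplement H)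
    (e : G ≃* H) : HasMat ℚ G :=
  (hasMat_of_hasFPFModule (Frob.IsFrobeniusComplement.hasFPFModule hH)).of_injective e.toMonoidHom e.injective

end Cfsg.Agent.FC
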