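import Cfsg.Agent.FC.Ico
import Cfsg.Agent.S0016
import Cfsg.Agent.H4.Q8
import Cfsg.Agent.H9.DihedralSylow
import Cfsg.Agent.BG.OmegaOdd
import Cfsg.Agent.Transfer.Frobenius

/-!
Groups with fixed-point-free modules: 2-subgroups and normal complements.
-/

set_option autoImplicit false
set_option linter.unusedSectionVars false

namespace Cfsg.Agent.FC

open Frob (HasFPFModule)
open H4 (IsQ8)

universe u

variable {G : Type u} [Group G] [Finite G]

theorem psub (h : HasFPFModule G) {p : ℕ} [Fact p.Prime] {Q : Subgroup G} (hQ : IsPGroup p Q) :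
    IsCyclic Q ∨ (p = 2 ∧ ∃ n : ℕ, Nonempty (Q ≃* QuaternionGroup (2 ^ n))) :=
  S0016.result p hQ (fun H K hH hK => (h.subgroup Q).unique_subgroup_of_isPGroup hQ H K hH hK)

/-- a cyclic 2-group normalised by an element of odd order is centralised -/
theorem cyclic_two_centralized {Q : Subgroup G} (hQ : IsPGroup 2 Q) (hc : IsCyclic Q) {g : G}
    (hg : g ∈ Subgroup.normalizer (Q : Set G)) (ho : Odd (orderOf g)) : ∀ w ∈ Q, g * w = w * g := by
  obtain ⟨a, ha⟩ := hc.exists_generator
  obtain ⟨m, hm⟩ := IsPGroup.iff_orderOf.mp hQ a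
  have h1 : g * a * g⁻¹ ∈ Q := (Subgroup.mem_normalizer_iff.mp hg _).mp a.2
  obtain ⟨k, hk⟩ := ha ⟨_, h1⟩
  have h2 : g * (a : G) * g⁻¹ = (a : G) ^ k := by
    have := congrArg Subtype.val hk
    simpa using this.symm
  have h3 := H9.centralizes_of_cyclic_two (a := (a : G)) (m := m) (by rw [Subgroup.orderOf_coe, hm]) ho h2
  have h4 : Commute g (a : G) := by
    show g * (a : G) = a * g
    exact mul_inv_eq_iff_eq_mul.mp h3
  intro w hw
  obtain ⟨l, hl⟩ := ha ⟨w, hw⟩
  have h5 : w = (a : G) ^ l := by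
    have := congrArg Subtype.val hl
    simpa using this.symm
  rw [h5]
  exact (h4.zpow_right l).eq

/-- a quaternion group of order at least 16 -/
theorem quat_centralized {Q : Subgroup G} {n : ℕ} (hn : 2 ≤ n) (e : Q ≃* QuaternionGroup (2 ^ n)) {g : G}
    (hg : g ∈ Subgroup.normalizer (Q : Set G)) (ho : Odd (orderOf g)) : ∀ w ∈ Q, g * w = w * g := by
  have hne : NeZero (2 ^ n) := ⟨by positivity⟩
  have hne2 : NeZero (2 * 2 ^ n) := ⟨by positivity⟩
  set a : Q := e.symm (QuaternionGroup.a 1) with ha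
  have hea : e a = QuaternionGroup.a 1 := e.apply_symm_apply _
  have hoa : orderOf (a : G) = 2 ^ (n + 1) := by
    rw [Subgroup.orderOf_coe, ← orderOf_injective e.toMonoidHom e.injective a]
    show orderOf (e a) = _
    rw [hea, QuaternionGroup.orderOf_a_one, pow_succ, mul_comm]
  have hconj : ∀ w ∈ Q, g * w * g⁻¹ ∈ Q := fun w hw => (Subgroup.mem_normalizer_iff.mp hg _).mp hw
  -- elements of the form `a i` are powers of `a`
  have hpow : ∀ (w : Q) (i : ZMod (2 * 2 ^ n)), e w = QuaternionGroup.a i → (w : G) ∈ Subgroup.zpowers (a : G) := by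
    intro w i hw
    have h1 : w = a ^ i.val := by
      apply e.injective
      rw [map_pow, hea, QuaternionGroup.a_one_pow, ZMod.natCast_zmod_val, hw]
    rw [h1, Subgroup.coe_pow]
    exact Subgroup.pow_mem _ (Subgroup.mem_zpowers _) _
  have hpow' : ∀ w : Q, (w : G) ∈ Subgroup.zpowers (a : G) → ∃ i : ZMod (2 * 2 ^ n), e w = QuaternionGroup.a i := by
    rintro w ⟨k, hk⟩
    have h1 : w = a ^ k := by
      apply Subtype.ext
      rw [← hk]; simp
    refine ⟨k, ?_⟩
    rw [h1, map_zpow, hea]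
    have h2 : ∀ k : ℤ, (QuaternionGroup.a 1 : QuaternionGroup (2 ^ n)) ^ k = QuaternionGroup.a k := by
      intro k
      obtain ⟨m, rfl | rfl⟩ := k.eq_nat_or_neg
      · rw [zpow_natCast, QuaternionGroup.a_one_pow, Int.cast_natCast]
      · rw [zpow_neg, zpow_natCast, QuaternionGroup.a_one_pow, Int.cast_neg, Int.cast_natCast]
        rfl
    exact h2 k
  have hga : g * (a : G) * g⁻¹ ∈ Subgroup.zpowers (a : G) := by
    rcases hcase : e ⟨g * (a : G) * g⁻¹, hconj _ a.2⟩ with i | i
    · exact hpow _ i hcase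
    · exfalso
      have h1 : orderOf (g * (a : G) * g⁻¹) = 4 := by
        have h2 := orderOf_injective e.toMonoidHom e.injective ⟨g * (a : G) * g⁻¹, hconj _ a.2⟩
        have h3 : orderOf (e.toMonoidHom ⟨g * (a : G) * g⁻¹, hconj _ a.2⟩) = 4 := by
          show orderOf (e ⟨g * (a : G) * g⁻¹, hconj _ a.2⟩) = 4
          rw [hcase, QuaternionGroup.orderOf_xa]
        rw [h3, ← Subgroup.orderOf_coe] at h2
        exact h2.symm
      have h2 : orderOf (g * (a : G) * g⁻¹) = orderOf (a : G) := by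
        have := orderOf_injective (MulAut.conj g).toMonoidHom (MulAut.conj g).injective (a : G)
        simpa using this
      rw [h1, hoa] at h2
      have : 2 ^ 3 ≤ 2 ^ (n + 1) := Nat.pow_le_pow_right (by norm_num) (by omega)
      omega
  obtain ⟨k, hk⟩ := hga
  have h3 := H9.centralizes_of_cyclic_two (a := (a : G)) (m := n + 1) hoa ho hk.symm
  have h4 : Commute g (a : G) := mul_inv_eq_iff_eq_mul.mp h3
  have hcz : ∀ y ∈ Subgroup.zpowers (a : G), g * y = y * g := by
    rintro y ⟨k, rfl⟩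
    exact (h4.zpow_right k).eq
  have hz2 : IsPGroup 2 (Subgroup.zpowers (a : G)) := by
    rw [IsPGroup.iff_card, Nat.card_zpowers, hoa]
    exact ⟨_, rfl⟩
  intro w hw
  rcases hcase : e ⟨w, hw⟩ with i | i
  · exact hcz w (hpow _ i hcase)
  · rcases hcase' : e ⟨g * w * g⁻¹, hconj _ hw⟩ with j | j
    · exfalso
      have h5 := hpow _ j hcase'
      simp only at h5
      have h6 := hcz _ h5
      have h7 : w = g * w * g⁻¹ := by
        have : g * (g * w * g⁻¹) = g * w := by rw [h6]; group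
        exact (mul_left_cancel this).symm
      rw [← h7] at h5
      obtain ⟨l, hl⟩ := hpow' ⟨w, hw⟩ h5
      rw [hcase] at hl
      cases hl
    · have hmem : w⁻¹ * (g * w * g⁻¹) ∈ Subgroup.zpowers (a : G) := by
        have h5 : e ((⟨w, hw⟩ : Q)⁻¹ * ⟨g * w * g⁻¹, hconj _ hw⟩) = (QuaternionGroup.xa i)⁻¹ * QuaternionGroup.xa j := by
          rw [map_mul, map_inv, hcase, hcase']
        have h6 : ∃ l, (QuaternionGroup.xa i)⁻¹ * QuaternionGroup.xa j = (QuaternionGroup.a l : QuaternionGroup (2 ^ n)) := by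
          have h7 : (QuaternionGroup.xa i : QuaternionGroup (2 ^ n))⁻¹ = QuaternionGroup.xa (((2 ^ n : ℕ) : ZMod (2 * 2 ^ n)) + i) := rfl
          rw [h7, QuaternionGroup.xa_mul_xa]
          exact ⟨_, rfl⟩
        obtain ⟨l, hl⟩ := h6
        exact hpow _ l (h5.trans hl)
      exact H9.comm_of_commutator_mem_centralized hz2 ho hcz hmem

/-- an element of odd order acting nontrivially on a cyclic or quaternion 2-subgroup: Q8 and order three -/
theorem odd_on_two' {Q : Subgroup G} (hQ : IsPGroup 2 Q)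
    (hcq : IsCyclic Q ∨ ∃ n : ℕ, Nonempty (Q ≃* QuaternionGroup (2 ^ n))) {g : G}
    (hg : g ∈ Subgroup.normalizer (Q : Set G)) (ho : Odd (orderOf g)) (hgc : g ∉ Subgroup.centralizer (Q : Set G)) :
    ∃ u : G, IsQ8 Q u ∧ g ^ 3 ∈ Subgroup.centralizer (Q : Set G) ∧ Nonempty (Q ≃* QuaternionGroup 2) := by
  have hnc : ¬ ∀ w ∈ Q, g * w = w * g := by
    intro h1
    apply hgc
    rw [Subgroup.mem_centralizer_iff]
    intro w hw
    exact (h1 w hw).symm
  haveI : Fact (Nat.Prime 2) := ⟨Nat.prime_two⟩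
  rcases hcq with hc | ⟨n, ⟨e⟩⟩
  · exact (hnc (cyclic_two_centralized hQ hc hg ho)).elim
  rcases Nat.lt_or_ge n 2 with hn | hn
  · interval_cases n
    · exfalso
      apply hnc
      apply cyclic_two_centralized hQ _ hg ho
      rw [pow_zero] at e
      haveI := QuaternionGroup.quaternionGroup_one_isCyclic
      exact isCyclic_of_surjective e.symm.toMonoidHom e.symm.surjective
    · rw [pow_one] at e
      have hq := H4.isQ8_of_equiv e
      set u := (e.symm (QuaternionGroup.a 2) : G)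
      refine ⟨u, hq, ?_, ⟨e⟩⟩
      have hconj : ∀ (k : ℕ) (y : G), y ∈ Q → g ^ k * y * (g ^ k)⁻¹ ∈ Q := fun k y hy =>
        (Subgroup.mem_normalizer_iff.mp (Subgroup.pow_mem _ hg k) _).mp hy
      have hodd : ∀ k : ℕ, Odd (orderOf (g ^ k)) := fun k => ho.of_dvd_nat (orderOf_pow_dvd k)
      obtain ⟨x, hx, -, -, hxx, -, -, -⟩ := hq.pair
      have hnf : ∀ k : ℕ, k = 1 ∨ k = 2 → ∀ y ∈ Q, y * y ≠ 1 → ¬ (g ^ k * y * (g ^ k)⁻¹ = y ∨ g ^ k * y * (g ^ k)⁻¹ = y⁻¹) := by
        intro k hk y hy hyy hcon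
        have h1 := hq.centralizes (hodd k) (hconj k) hy hyy hcon
        apply hnc
        intro w hw
        rcases hk with rfl | rfl
        · have := h1 w hw
          rw [pow_one] at this
          exact this.eq
        · have := h1 w hw
          rw [pow_two] at this
          exact (H4.commute_of_sq_commute ho this).eq
      have hsq : ∀ (k : ℕ) (y : G), y * y ≠ 1 → g ^ k * y * (g ^ k)⁻¹ * (g ^ k * y * (g ^ k)⁻¹) ≠ 1 := by
        intro k y hy h1
        apply hy
        have h2 : g ^ k * y * (g ^ k)⁻¹ * (g ^ k * y * (g ^ k)⁻¹) = g ^ k * (y * y) * (g ^ k)⁻¹ := by group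
        rw [h2] at h1
        exact conj_eq_one_iff.mp h1
      set x1 := g ^ 1 * x * (g ^ 1)⁻¹ with hx1
      set x2 := g ^ 2 * x * (g ^ 2)⁻¹ with hx2
      set x3 := g ^ 3 * x * (g ^ 3)⁻¹ with hx3
      have n01 := hnf 1 (Or.inl rfl) x hx hxx
      have n02 := hnf 2 (Or.inr rfl) x hx hxx
      have n12 := hnf 1 (Or.inl rfl) x1 (hconj 1 x hx) (hsq 1 x hxx)
      have n13 := hnf 2 (Or.inr rfl) x1 (hconj 1 x hx) (hsq 1 x hxx)
      have n23 := hnf 1 (Or.inl rfl) x2 (hconj 2 x hx) (hsq 2 x hxx)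
      rw [← hx1] at n01
      rw [← hx2] at n02
      have e12 : g ^ 1 * x1 * (g ^ 1)⁻¹ = x2 := by rw [hx1, hx2]; group
      have e13 : g ^ 2 * x1 * (g ^ 2)⁻¹ = x3 := by rw [hx1, hx3]; group
      have e23 : g ^ 1 * x2 * (g ^ 1)⁻¹ = x3 := by rw [hx2, hx3]; group
      rw [e12] at n12
      rw [e13] at n13
      rw [e23] at n23
      push Not at n01 n02 n12 n13 n23
      have hx1Q := hconj 1 x hx
      have hx2Q := hconj 2 x hx
      have hx3Q := hconj 3 x hx
      have hx1s := hsq 1 x hxx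
      have hx2s := hsq 2 x hxx
      have hx3s := hsq 3 x hxx
      rw [← hx1] at hx1Q hx1s
      rw [← hx2] at hx2Q hx2s
      rw [← hx3] at hx3Q hx3s
      have hne : ∀ y : G, y * y ≠ 1 → y ≠ 1 ∧ y ≠ u := by
        intro y hy
        constructor
        · rintro rfl; exact hy (mul_one _)
        · rintro rfl; exact hy hq.mul_self
      have hz : x2 = x * x1 ∨ x2 = (x * x1)⁻¹ := by
        rcases hq.span x hx x1 hx1Q hxx hx1s n01.1 n01.2 x2 hx2Q with h1 | h1 | h1 | h1 | h1 | h1 | h1 | h1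
        · exact ((hne _ hx2s).1 h1).elim
        · exact ((hne _ hx2s).2 h1).elim
        · exact (n02.1 h1).elim
        · exact (n02.2 h1).elim
        · exact (n12.1 h1).elim
        · exact (n12.2 h1).elim
        · exact Or.inl h1
        · exact Or.inr h1
      have hfin : x3 = x ∨ x3 = x⁻¹ := by
        rcases hq.span x hx x1 hx1Q hxx hx1s n01.1 n01.2 x3 hx3Q with h1 | h1 | h1 | h1 | h1 | h1 | h1 | h1
        · exact ((hne _ hx3s).1 h1).elim
        · exact ((hne _ hx3s).2 h1).elim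
        · exact Or.inl h1
        · exact Or.inr h1
        · exact (n13.1 h1).elim
        · exact (n13.2 h1).elim
        · exfalso
          rcases hz with h2 | h2
          · exact n23.1 (h1.trans h2.symm)
          · exact n23.2 (by rw [h2, inv_inv]; exact h1)
        · exfalso
          rcases hz with h2 | h2
          · exact n23.2 (by rw [h2]; exact h1)
          · exact n23.1 (h1.trans h2.symm)
      have := hq.centralizes (hodd 3) (hconj 3) hx hxx hfin
      rw [Subgroup.mem_centralizer_iff]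
      intro w hw
      exact (this w hw).symm.eq
  · exact (hnc (quat_centralized hn e hg ho)).elim

/-- an element of odd order acting nontrivially on a 2-subgroup: Q8 and order three -/
theorem odd_on_two (h : HasFPFModule G) {Q : Subgroup G} (hQ : IsPGroup 2 Q) {g : G}
    (hg : g ∈ Subgroup.normalizer (Q : Set G)) (ho : Odd (orderOf g)) (hgc : g ∉ Subgroup.centralizer (Q : Set G)) :
    ∃ u : G, IsQ8 Q u ∧ g ^ 3 ∈ Subgroup.centralizer (Q : Set G) := by
  haveI : Fact (Nat.Prime 2) := ⟨Nat.prime_two⟩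
  obtain ⟨u, h1, h2, -⟩ := odd_on_two' hQ (by
    rcases psub h hQ with hc | ⟨-, h⟩
    · exact Or.inl hc
    · exact Or.inr h) hg ho hgc
  exact ⟨u, h1, h2⟩

theorem three_dvd_of_not_centralized (h : HasFPFModule G) {Q : Subgroup G} (hQ : IsPGroup 2 Q) {g : G}
    (hg : g ∈ Subgroup.normalizer (Q : Set G)) (ho : Odd (orderOf g)) (hgc : g ∉ Subgroup.centralizer (Q : Set G)) :
    3 ∣ orderOf g := by
  obtain ⟨u, hq, h3⟩ := odd_on_two h hQ hg ho hgc
  by_contra hcon
  apply hgc
  have hcop : Nat.Coprime 3 (orderOf g) := (Nat.Prime.coprime_iff_not_dvd Nat.prime_three).mpr hcon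
  obtain ⟨m, hm⟩ := exists_pow_eq_self_of_coprime hcop
  rw [← hm]
  exact Subgroup.pow_mem _ h3 m

/-- no elements of order three: normal 2-complement -/
theorem npc2_of_no3 (h : HasFPFModule G) (h3 : ∀ z : G, z * z * z = 1 → z = 1) : Cfsg.HasNormalPComplement 2 G := by
  haveI : Fact (Nat.Prime 2) := ⟨Nat.prime_two⟩
  apply Transfer.hasNPC_of_frobenius
  intro Q hQ g hg ho
  by_contra hgc
  have ho' : Odd (orderOf g) := (Nat.coprime_two_right).mp ho
  have h1 := three_dvd_of_not_centralized h hQ hg ho' hgc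
  obtain ⟨m, hm⟩ := h1
  have hpos := orderOf_pos g
  have h4 : g ^ m = 1 := by
    apply h3
    have h5 : m + m + m = orderOf g := by omega
    rw [← pow_add, ← pow_add, h5, pow_orderOf_eq_one]
  have := orderOf_dvd_of_pow_eq_one h4
  have h5 := Nat.le_of_dvd (by
    rcases Nat.eq_zero_or_pos m with rfl | h
    · omega
    · exact h) this
  omega

end Cfsg.Agent.FC
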